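import Cfsg.Agent.Lib.Linear.OrthSubfieldFail
import Cfsg.Agent.Lib.Linear.OrthSubfieldTop

/-!
# Rational root elements inside subgroups of `Ω`, in dimension at least eight

As for dimension at least ten, with less room: chains of perpendicular pairs are replaced by the
transitivity of the rational root elements.
-/

set_option autoImplicit false

namespace Cfsg.Lib.Linear.OrthSub8

open Module
open scoped Matrix
open Cfsg.Lib.Linear.Orth Cfsg.Lib.Linear.Rat0 Cfsg.Lib.Linear.OrthSub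

variable {ι : Type} [Fintype ι] [DecidableEq ι] {F : Type*} [Field F] {F₀ : Subfield F}
  {Q : (ι → F) → F} {B : LinearMap.BilinForm F (ι → F)} {Q₀ : (ι → F₀) → F₀}
  {B₀ : LinearMap.BilinForm F₀ (ι → F₀)} {H : Subgroup (GL ι F)}

/-- The standing hypotheses. -/
structure Ctx8 (Q : (ι → F) → F) (B : LinearMap.BilinForm F (ι → F)) (Q₀ : (ι → F₀) → F₀)
    (B₀ : LinearMap.BilinForm F₀ (ι → F₀)) (H : Subgroup (GL ι F)) : Prop where
  space : Space Q B
  space₀ : Space Q₀ B₀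
  compat : ∀ x, Q (rv F₀ x) = (Q₀ x : F)
  card : 8 ≤ Fintype.card ι
  le : H ≤ Cfsg.Geo.omegaGL Q
  rat : ∀ g ∈ Cfsg.Geo.omegaGL Q, RatG F₀ g → g ∈ H

variable (X : Ctx8 Q B Q₀ B₀ H)

include X

theorem Ctx8.B_rv (x y : ι → F₀) : B (rv F₀ x) (rv F₀ y) = (B₀ x y : F) := by
  rw [← X.space.polar, ← X.space₀.polar, QuadraticMap.polar, QuadraticMap.polar, ← rv_add]
  simp [X.compat]

theorem Ctx8.ratv_of_pairing {z : ι → F} (hz : ∀ e : ι → F₀, B (rv F₀ e) z ∈ F₀) :
    Ratv F₀ z := by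
  let φ : Module.Dual F₀ (ι → F₀) :=
    { toFun := fun e => ⟨_, hz e⟩
      map_add' := fun a b => Subtype.ext (by simp [rv_add])
      map_smul' := fun c a => Subtype.ext (by simp [rv_smul]) }
  have hinj : Function.Injective B₀ := by
    rw [injective_iff_map_eq_zero]
    exact fun a ha => X.space₀.nondeg' fun u => LinearMap.congr_fun ha u
  obtain ⟨w, hw⟩ := (LinearMap.injective_iff_surjective_of_finrank_eq_finrank
    (f := B₀) (Subspace.dual_finrank_eq).symm).mp hinj φ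
  refine ⟨w, sub_eq_zero.mp (X.space.nondeg _ fun u => ?_)⟩
  have h1 : ∀ e : ι → F₀, B (rv F₀ e) (z - rv F₀ w) = 0 := fun e => by
    have h := congrArg Subtype.val (LinearMap.congr_fun hw e)
    change (B₀ w e : F) = B (rv F₀ e) z at h
    rw [map_sub, X.B_rv, ← h, X.space₀.symm e w, sub_self]
  rw [pi_eq_sum_univ' u, map_sum, LinearMap.sum_apply]
  refine Finset.sum_eq_zero fun i _ => ?_
  rw [map_smul, LinearMap.smul_apply, ← rv_single_mem (F₀ := F₀), h1, smul_zero]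

theorem Ctx8.sMat_mem {x a : ι → F₀} (i j : ι) :
    sMat Q B (rv F₀ x) (rv F₀ a) i j ∈ F₀ := by
  have hc : ∀ x : ι → F₀, ∀ j, cov B (rv F₀ x) j ∈ F₀ := fun x j => by
    show B (rv F₀ x) (Pi.single j 1) ∈ F₀
    rw [← rv_single_mem (F₀ := F₀), X.B_rv]
    exact SetLike.coe_mem _
  simp only [sMat, Matrix.add_apply, Matrix.sub_apply, Matrix.vecMulVec_apply, Pi.add_apply,
    Pi.smul_apply, smul_eq_mul, Matrix.one_apply]
  refine F₀.sub_mem (F₀.add_mem ?_ (F₀.mul_mem (a i).2 (hc x j)))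
    (F₀.mul_mem (x i).2 (F₀.add_mem (hc a j) (F₀.mul_mem ?_ (hc x j))))
  · split_ifs
    · exact F₀.one_mem
    · exact F₀.zero_mem
  · rw [X.compat]; exact SetLike.coe_mem _

variable [Finite F]

theorem Ctx8.le_iso : H ≤ isometryGroup F Q :=
  X.le.trans (Subgroup.map_subtype_le _)

theorem Ctx8.five : 5 ≤ Fintype.card ι := le_trans (by norm_num) X.card

/-- Rational Siegel elements lie in `H`. -/
theorem Ctx8.sGL_rv {x a : ι → F₀} (hx : Q₀ x = 0) (hxa : B₀ x a = 0) :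
    sGL Q B (rv F₀ x) (rv F₀ a) ∈ H := by
  have h1 : Q (rv F₀ x) = 0 := by rw [X.compat, hx]; rfl
  have h2 : B (rv F₀ x) (rv F₀ a) = 0 := by rw [X.B_rv, hxa]; rfl
  refine X.rat _ ?_ ⟨1, one_ne_zero, fun i j => ?_⟩
  · rw [omegaGL_eq X.space X.five]
    exact sGL_mem_root trivial trivial h1 h2
  · rw [one_mul, sGL_val X.space h1 h2]
    exact X.sMat_mem i j

theorem Ctx8.split_top : Split Q₀ B₀ ⊤ ⊥ :=
  ⟨X.space₀.ndeg_top, fun _ hx _ => (Submodule.mem_bot F₀).mp hx,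
    fun u _ w hw => by rw [(Submodule.mem_bot F₀).mp hw, map_zero], sup_bot_eq _⟩

/-- A hyperbolic pair perpendicular to a list of at most two vectors and outside their span. -/
theorem Ctx8.exists_hyp_list (s : Finset (ι → F₀)) (hs : s.card ≤ 2) :
    ∃ e f, Hyp Q₀ B₀ (perpIn B₀ ⊤ (Submodule.span F₀ (s : Set (ι → F₀)))) e f ∧
      e ∉ Submodule.span F₀ (s : Set (ι → F₀)) ∧ f ∉ Submodule.span F₀ (s : Set (ι → F₀)) := by
  refine exists_hyp_perpIn X.space₀ X.split_top le_top ?_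
  have h := finrank_span_finset_le_card (R := F₀) s
  unfold Set.finrank at h
  have := X.card
  rw [finrank_top, finrank_fintype_fun_eq_card]
  omega

theorem Ctx8.exists_sing_list (s : Finset (ι → F₀)) (hs : s.card ≤ 2) {x : ι → F₀}
    (hx : x ∉ Submodule.span F₀ (s : Set (ι → F₀))) :
    ∃ u, Q₀ u = 0 ∧ B₀ x u = 1 ∧ ∀ a ∈ s, B₀ a u = 0 := by
  obtain ⟨u, hu, hQu, hxu⟩ := exists_sing_perpIn X.space₀ X.split_top (A := Submodule.span F₀ s)
    le_top (by
      have h := finrank_span_finset_le_card (R := F₀) s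
      unfold Set.finrank at h
      have := X.card
      rw [finrank_top, finrank_fintype_fun_eq_card]
      omega) trivial hx
  exact ⟨u, hQu, hxu, fun a ha => hu.2 a (Submodule.subset_span ha)⟩

omit [Finite F] in
/-- A hyperbolic pair splits the space. -/
theorem Ctx8.split_pair {e f : ι → F₀} (h : Hyp Q₀ B₀ ⊤ e f) :
    Split Q₀ B₀ (perp2 B₀ ⊤ e f) (Submodule.span F₀ {e, f}) := by
  have S := X.space₀
  refine ⟨h.ndeg S S.ndeg_top, fun x hx hxy => ?_, fun u hu w hw => ?_,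
    eq_top_iff.mpr fun x _ => ?_⟩
  · obtain ⟨a, b, rfl⟩ := Submodule.mem_span_pair.mp hx
    have h1 := hxy f (Submodule.subset_span (by simp))
    have h2 := hxy e (Submodule.subset_span (by simp))
    simp only [map_add, map_smul, LinearMap.add_apply, LinearMap.smul_apply, smul_eq_mul, h.pair,
      h.pair' S, S.self_zero h.singE, S.self_zero h.singF, mul_one, mul_zero, add_zero,
      zero_add] at h1 h2
    rw [h1, h2]
    simp
  · obtain ⟨-, h1, h2⟩ := mem_perp2.mp hu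
    obtain ⟨a, b, rfl⟩ := Submodule.mem_span_pair.mp hw
    simp [S.symm u e, S.symm u f, h1, h2]
  · rw [show x = (x - B₀ f x • e - B₀ e x • f) + (B₀ f x • e + B₀ e x • f) by abel]
    exact Submodule.add_mem_sup (h.proj S trivial) (Submodule.mem_span_pair.mpr ⟨_, _, rfl⟩)

/-- Without irrational root elements, root elements with a rational centre are rational. -/
theorem Ctx8.lambda (hA : ¬ CaseA Q B Q₀ B₀ H) {v : ι → F₀} (hv : Q₀ v = 0) (hv0 : v ≠ 0)
    {a : ι → F} (hva : B (rv F₀ v) a = 0) (ha : sGL Q B (rv F₀ v) a ∈ H) :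
    ∃ (c : F) (z : ι → F₀), a = rv F₀ z + c • rv F₀ v := by
  classical
  have C := X.space
  have hQv : Q (rv F₀ v) = 0 := by rw [X.compat, hv]; rfl
  -- the operator of a rational root element perpendicular to `v`
  have step : ∀ (s t : ι → F₀), Q₀ s = 0 → Q₀ t = 0 → B₀ s t = 0 → B₀ v s = 0 → B₀ v t = 0 →
      ∀ a, B (rv F₀ v) a = 0 → sGL Q B (rv F₀ v) a ∈ H →
      B (rv F₀ v) (B (rv F₀ s) a • rv F₀ t - B (rv F₀ t) a • rv F₀ s) = 0 ∧
        sGL Q B (rv F₀ v) (B (rv F₀ s) a • rv F₀ t - B (rv F₀ t) a • rv F₀ s) ∈ H := by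
    intro s t hs ht hst hvs hvt a hva ha
    have hQs : Q (rv F₀ s) = 0 := by rw [X.compat, hs]; rfl
    have hQt : Q (rv F₀ t) = 0 := by rw [X.compat, ht]; rfl
    have hst' : B (rv F₀ s) (rv F₀ t) = 0 := by rw [X.B_rv, hst]; rfl
    have h0 : B (rv F₀ v) (B (rv F₀ s) a • rv F₀ t - B (rv F₀ t) a • rv F₀ s) = 0 := by
      simp [X.B_rv, hvs, hvt]
    have hg := X.sGL_rv hs hst
    refine ⟨h0, ?_⟩
    have hconj := mul_mem (mul_mem hg ha) (inv_mem hg)
    rw [sGL_conj C hQv hva (X.le_iso hg), sGL_act C hQs hst', sGL_act C hQs hst', hQt] at hconj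
    have e1 : B (rv F₀ s) (rv F₀ v) = 0 := by rw [X.B_rv, X.space₀.symm, hvs]; rfl
    have e2 : B (rv F₀ t) (rv F₀ v) = 0 := by rw [X.B_rv, X.space₀.symm, hvt]; rfl
    simp only [e1, e2, zero_mul, zero_smul, add_zero, sub_zero] at hconj
    rw [show a + B (rv F₀ s) a • rv F₀ t - B (rv F₀ t) a • rv F₀ s
        = a + (B (rv F₀ s) a • rv F₀ t - B (rv F₀ t) a • rv F₀ s) by abel,
      ← sGL_mul C hQv hva h0] at hconj
    exact (H.mul_mem_cancel_left ha).mp hconj
  have key : ∀ s : ι → F₀, Q₀ s = 0 → B₀ v s = 0 → B (rv F₀ s) a ∈ F₀ := by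
    intro s hs hvs
    by_contra hβ
    obtain ⟨t, s₂, hH1, -⟩ := X.exists_hyp_list {v, s} (Finset.card_le_two.trans (by norm_num))
    have hin : ∀ {e : ι → F₀} {S : Finset (ι → F₀)}, e ∈ perpIn B₀ ⊤ (Submodule.span F₀ ↑S) →
        ∀ b ∈ S, B₀ b e = 0 := fun {e S} h b hb => h.2 b (Submodule.subset_span hb)
    have hH1' : Hyp Q₀ B₀ ⊤ t s₂ := ⟨trivial, trivial, hH1.singE, hH1.singF, hH1.pair⟩
    have h1 := step s t hs hH1.singE (hin hH1.memE s (by simp)) hvs (hin hH1.memE v (by simp))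
      a hva ha
    have h2 := step s₂ s hH1.singF hs (by rw [X.space₀.symm]; exact hin hH1.memF s (by simp))
      (hin hH1.memF v (by simp)) hvs _ h1.1 h1.2
    have e1 : B (rv F₀ s₂) (rv F₀ t) = 1 := by
      rw [X.B_rv, X.space₀.symm, hH1.pair]; rfl
    have e2 : B (rv F₀ s₂) (rv F₀ s) = 0 := by
      rw [X.B_rv, X.space₀.symm, hin hH1.memF s (by simp)]; rfl
    have e3 : B (rv F₀ s) (rv F₀ t) = 0 := by rw [X.B_rv, hin hH1.memE s (by simp)]; rfl
    have e4 : B (rv F₀ s) (rv F₀ s) = 0 := C.self_zero (by rw [X.compat, hs]; rfl)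
    simp only [map_sub, map_smul, smul_eq_mul, e1, e2, e3, e4, mul_one, mul_zero, sub_zero,
      zero_smul] at h2
    have hs0 : s ≠ 0 := fun h => hβ (by rw [h, rv_zero']; simp)
    refine hA ⟨v, s, _, hv, hs, hvs, fun h => ?_, hs0, hβ, h2.2⟩
    obtain ⟨c, hc⟩ := Submodule.mem_span_singleton.mp h
    have hc0 : c ≠ 0 := fun h0 => hv0 (by rw [← hc, h0, zero_smul])
    have hva' := hva
    rw [← hc, rv_smul, map_smul, LinearMap.smul_apply, smul_eq_mul, mul_eq_zero] at hva'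
    exact hβ (hva'.resolve_left (fun h => hc0 (Subtype.ext h)) ▸ F₀.zero_mem)
  obtain ⟨f, hf⟩ := exists_hyp X.space₀ X.space₀.ndeg_top (e := v) trivial hv0 hv
  obtain ⟨e, e', hH, -⟩ := X.exists_hyp_list {v} (by simp)
  have key' : ∀ x, B₀ v x = 0 → B (rv F₀ x) a ∈ F₀ := fun x hx => by
    have hxP : x ∈ perpIn B₀ ⊤ (Submodule.span F₀ (({v} : Finset (ι → F₀)) : Set (ι → F₀))) :=
      ⟨trivial, fun b hb => by
        rw [Finset.coe_singleton] at hb
        obtain ⟨c, rfl⟩ := Submodule.mem_span_singleton.mp hb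
        rw [map_smul, LinearMap.smul_apply, hx, smul_zero]⟩
    have hsp := hH.span X.space₀ hxP
    clear hx hxP
    induction hsp using Submodule.span_induction with
    | mem w hw => exact key w hw.2 (hw.1.2 v (Submodule.subset_span (by simp)))
    | zero => rw [rv_zero']; simp
    | add p q _ _ hp hq =>
      rw [rv_add, map_add, LinearMap.add_apply]; exact F₀.add_mem hp hq
    | smul c p _ hp =>
      rw [rv_smul, map_smul, LinearMap.smul_apply, smul_eq_mul]; exact F₀.mul_mem c.2 hp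
  obtain ⟨z, hz⟩ := X.ratv_of_pairing (z := a - B (rv F₀ f) a • rv F₀ v) fun x => by
    have h := key' (x - B₀ v x • f) (by rw [map_sub, map_smul, hf.pair]; simp)
    rw [rv_sub', rv_smul, map_sub, LinearMap.sub_apply, map_smul, LinearMap.smul_apply,
      smul_eq_mul] at h
    rw [map_sub, map_smul, X.B_rv x v, X.space₀.symm x v, smul_eq_mul]
    convert h using 1
    ring
  exact ⟨B (rv F₀ f) a, z, by rw [← hz]; abel⟩

/-- A root element fixing a rational singular vector is rational. -/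
theorem Ctx8.rat_of_fix (hA : ¬ CaseA Q B Q₀ B₀ H) {x y : ι → F} (hx : Q x = 0) (hy : Q y = 0)
    (hxy : B x y = 0) (hS : sGL Q B x y ∈ H) {v : ι → F₀} (hv : Q₀ v = 0) (hv0 : v ≠ 0)
    (hxv : B x (rv F₀ v) = 0) (hyv : B y (rv F₀ v) = 0) (z : ι → F₀) :
    Ratv F₀ (nPart B x y (rv F₀ z)) := by
  classical
  have C := X.space
  have hQv : Q (rv F₀ v) = 0 := by rw [X.compat, hv]; rfl
  have hNv : nPart B x y (rv F₀ v) = 0 := by simp [nPart, hxv, hyv]
  have gv : (sGL Q B x y).val *ᵥ rv F₀ v = rv F₀ v := by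
    rw [root_act_nPart C hx hy hxy, hNv, add_zero]
  have hN : ∀ u : ι → F₀, B₀ v u = 0 → ∃ (c : F) (r : ι → F₀),
      nPart B x y (rv F₀ u) = rv F₀ r + c • rv F₀ v := by
    intro u hu
    have hvu : B (rv F₀ v) (rv F₀ u) = 0 := by rw [X.B_rv, hu]; rfl
    have h := mul_mem (mul_mem hS (X.sGL_rv hv hu)) (inv_mem hS)
    rw [sGL_conj C hQv hvu (X.le_iso hS), gv, root_act_nPart C hx hy hxy] at h
    have hn : B (rv F₀ v) (nPart B x y (rv F₀ u)) = 0 := by
      simp [nPart, C.symm (rv F₀ v) x, C.symm (rv F₀ v) y, hxv, hyv]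
    rw [← sGL_mul C hQv hvu hn] at h
    exact X.lambda hA hv hv0 hn ((H.mul_mem_cancel_left (X.sGL_rv hv hu)).mp h)
  obtain ⟨f, hf⟩ := exists_hyp X.space₀ X.space₀.ndeg_top (e := v) trivial hv0 hv
  by_cases hall : ∀ a b : ι → F₀, B₀ v a = 0 → B₀ v b = 0 →
      B (nPart B x y (rv F₀ a)) (rv F₀ b) = 0
  · -- the image of `v⊥` lies on the line of `v`
    have hline : ∀ a, B₀ v a = 0 → ∃ c : F, nPart B x y (rv F₀ a) = c • rv F₀ v := by
      intro a ha
      refine ⟨B (nPart B x y (rv F₀ a)) (rv F₀ f), sub_eq_zero.mp (C.nondeg' fun u => ?_)⟩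
      have h1 : ∀ e : ι → F₀, B (nPart B x y (rv F₀ a) -
          B (nPart B x y (rv F₀ a)) (rv F₀ f) • rv F₀ v) (rv F₀ e) = 0 := fun e => by
        have h := hall a (e - B₀ v e • f) ha (by rw [map_sub, map_smul, hf.pair]; simp)
        rw [rv_sub', rv_smul, map_sub, map_smul, smul_eq_mul] at h
        rw [map_sub, LinearMap.sub_apply, map_smul, LinearMap.smul_apply, smul_eq_mul, X.B_rv v e]
        linear_combination h
      rw [pi_eq_sum_univ' u, map_sum]
      refine Finset.sum_eq_zero fun i _ => ?_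
      rw [map_smul, ← rv_single_mem (F₀ := F₀), h1, smul_zero]
    have hskew : ∀ p q : ι → F, B (nPart B x y p) q = -B p (nPart B x y q) := fun p q => by
      simp [nPart, C.symm p x, C.symm p y]; ring
    by_cases hzero : ∀ a, B₀ v a = 0 → nPart B x y (rv F₀ a) = 0
    · have hf0 : nPart B x y (rv F₀ f) = 0 := C.nondeg' fun u => by
        rw [pi_eq_sum_univ' u, map_sum]
        refine Finset.sum_eq_zero fun i _ => ?_
        rw [map_smul, ← rv_single_mem (F₀ := F₀) i]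
        set e : ι → F₀ := Pi.single i 1
        rw [show e = (e - B₀ v e • f) + B₀ v e • f by abel, rv_add, rv_smul, map_add, map_smul,
          hskew _ (rv F₀ (e - B₀ v e • f)),
          hzero _ (by rw [map_sub, map_smul, hf.pair]; simp),
          show B (nPart B x y (rv F₀ f)) (rv F₀ f) = 0 by
            simp [nPart, C.symm y (rv F₀ f), C.symm x (rv F₀ f)]; ring]
        simp
      have hall0 : nPart B x y (rv F₀ z) = 0 := by
        have := hzero (z - B₀ v z • f) (by rw [map_sub, map_smul, hf.pair]; simp)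
        rw [rv_sub', rv_smul] at this
        have hlin : nPart B x y (rv F₀ z) = nPart B x y (rv F₀ z - (B₀ v z : F) • rv F₀ f) +
            (B₀ v z : F) • nPart B x y (rv F₀ f) := by
          simp only [nPart, map_sub, map_smul, smul_eq_mul]; module
        rw [hlin, this, hf0, smul_zero, add_zero]
      rw [hall0]
      exact ratv_zero
    push Not at hzero
    obtain ⟨a, ha, hne⟩ := hzero
    obtain ⟨c, hc⟩ := hline a ha
    have hc0 : c ≠ 0 := fun h => hne (by rw [hc, h, zero_smul])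
    obtain ⟨w, d, hw, hwd⟩ : ∃ (w : ι → F) (d : F), B (rv F₀ v) w = 0 ∧
        sGL Q B x y = sGL Q B (rv F₀ v) (d • w) ∧
          ∀ z, nPart B x y z = d • nPart B (rv F₀ v) w z := by
      -- `v` lies in the plane of `x` and `y`
      have hv' : rv F₀ v = c⁻¹ • nPart B x y (rv F₀ a) := by
        rw [hc, smul_smul, inv_mul_cancel₀ hc0, one_smul]
      set α := B x (rv F₀ a)
      set β := B y (rv F₀ a)
      have hv2 : rv F₀ v = (-(c⁻¹ * β)) • x + (c⁻¹ * α) • y := by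
        rw [hv', nPart]; module
      by_cases hβ : β = 0
      · have hα : α ≠ 0 := fun h => hne (by simp [nPart, α, β] at h hβ ⊢; simp [h, hβ])
        refine ⟨x, -(c * α⁻¹), ?_, ?_, fun z => ?_⟩
        · rw [C.symm, hxv]
        · rw [hv2, hβ]
          simp only [mul_zero, neg_zero, zero_smul, zero_add]
          rw [sGL_smul C hy (by rw [map_smul, C.symm y x, hxy, smul_zero]),
            sGL_swap C hx hy hxy, smul_smul,
            show c⁻¹ * α * -(c * α⁻¹) = -1 by field_simp, neg_one_smul]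
        · rw [hv2, hβ]
          simp only [nPart, mul_zero, neg_zero, zero_smul, zero_add, map_smul, LinearMap.smul_apply,
            smul_eq_mul]
          match_scalars <;> field_simp
      · refine ⟨y, -(c * β⁻¹), ?_, ?_, fun z => ?_⟩
        · rw [C.symm, hyv]
        · have hp := sGL_plane (Q := Q) (B := B) C hx hy hxy (-(c⁻¹ * β)) (c⁻¹ * α) 0 (-(c * β⁻¹))
          rw [zero_smul, zero_add, ← hv2, mul_zero, sub_zero,
            show -(c⁻¹ * β) * -(c * β⁻¹) = 1 by field_simp, one_smul] at hp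
          exact hp.symm
        · rw [hv2]
          simp only [nPart, map_add, map_smul, LinearMap.add_apply, LinearMap.smul_apply,
            smul_eq_mul]
          match_scalars <;> field_simp <;> ring
    obtain ⟨e, r, hr⟩ := X.lambda hA hv hv0 (a := d • w) (by rw [map_smul, hw, smul_zero])
      (hwd.1 ▸ hS)
    rw [hwd.2, show d • nPart B (rv F₀ v) w (rv F₀ z) = nPart B (rv F₀ v) (d • w) (rv F₀ z) by
      simp only [nPart, map_smul, LinearMap.smul_apply, smul_eq_mul]; module, hr]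
    have : nPart B (rv F₀ v) (rv F₀ r + e • rv F₀ v) (rv F₀ z) =
        (B₀ v z : F) • rv F₀ r - (B₀ r z : F) • rv F₀ v := by
      simp only [nPart, map_add, map_smul, LinearMap.add_apply, LinearMap.smul_apply, X.B_rv,
        smul_eq_mul]
      module
    rw [this]
    exact ((ratv_rv r).smul (SetLike.coe_mem _)).sub ((ratv_rv v).smul (SetLike.coe_mem _))
  -- two perpendicular rational vectors recover the plane
  push Not at hall
  obtain ⟨a, b, ha, hb, hne⟩ := hall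
  set φ := B (nPart B x y (rv F₀ a)) (rv F₀ b) with hφ
  obtain ⟨α, a', hα⟩ := hN a ha
  obtain ⟨β, b', hβ⟩ := hN b hb
  have hφmem : φ ∈ F₀ := by
    rw [hφ, hα, map_add, map_smul, LinearMap.add_apply, LinearMap.smul_apply, X.B_rv, X.B_rv, hb]
    simp
  have hQN : ∀ z, Q (nPart B x y z) = 0 := fun z => by
    rw [nPart, sub_eq_add_neg, ← neg_smul, C.smul_add, hx, hy, C.symm y x, hxy]
    ring
  have hBN : ∀ z z', B (nPart B x y z) (nPart B x y z') = 0 := fun z z' => by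
    simp [nPart, C.self_zero hx, C.self_zero hy, hxy, C.symm y x]
  have hBv : ∀ z, B (rv F₀ v) (nPart B x y z) = 0 := fun z => by
    simp [nPart, C.symm (rv F₀ v) x, C.symm (rv F₀ v) y, hxv, hyv]
  have hzero₀ : ∀ {p q : ι → F₀} {γ δ : F}, B (rv F₀ p + γ • rv F₀ v) (rv F₀ q + δ • rv F₀ v) = 0 →
      B (rv F₀ v) (rv F₀ p + γ • rv F₀ v) = 0 → B (rv F₀ v) (rv F₀ q + δ • rv F₀ v) = 0 →
      B (rv F₀ p) (rv F₀ q) = 0 ∧ B (rv F₀ v) (rv F₀ p) = 0 ∧ B (rv F₀ v) (rv F₀ q) = 0 := by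
    intro p q γ δ h1 h2 h3
    simp only [map_add, map_smul, C.self_zero hQv, smul_zero, add_zero] at h2 h3
    refine ⟨?_, h2, h3⟩
    simpa [C.self_zero hQv, C.symm (rv F₀ p) (rv F₀ v), h2, h3] using h1
  obtain ⟨hab', hva', hvb'⟩ := hzero₀ (hα ▸ hβ ▸ hBN _ _) (hα ▸ hBv _) (hβ ▸ hBv _)
  have hQ' : ∀ {p : ι → F₀} {γ : F}, Q (rv F₀ p + γ • rv F₀ v) = 0 →
      B (rv F₀ v) (rv F₀ p) = 0 → Q (rv F₀ p) = 0 ∧ Q₀ p = 0 := by
    intro p γ h h'
    rw [C.add, C.smul, hQv, map_smul, C.symm _ (rv F₀ v), h'] at h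
    simp only [mul_zero, add_zero, smul_zero] at h
    exact ⟨h, Subtype.ext (by rw [← X.compat, h]; rfl)⟩
  obtain ⟨hQa, hQa₀⟩ := hQ' (hα ▸ hQN _) hva'
  obtain ⟨hQb, hQb₀⟩ := hQ' (hβ ▸ hQN _) hvb'
  have hb0 : B₀ a' b' = 0 := Subtype.ext (by rw [← X.B_rv, hab']; rfl)
  -- `N = φ⁻¹ (N a ∧ N b)`
  have hdet : φ = B x (rv F₀ a) * B y (rv F₀ b) - B y (rv F₀ a) * B x (rv F₀ b) := by
    simp [hφ, nPart]
  have hplane : sGL Q B x y = sGL Q B (nPart B x y (rv F₀ a)) (φ⁻¹ • nPart B x y (rv F₀ b)) := by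
    have hp := sGL_plane (Q := Q) (B := B) C hx hy hxy (-(B y (rv F₀ a))) (B x (rv F₀ a))
      (φ⁻¹ * -(B y (rv F₀ b))) (φ⁻¹ * B x (rv F₀ b))
    have e : -(B y (rv F₀ a)) * (φ⁻¹ * B x (rv F₀ b)) -
        B x (rv F₀ a) * (φ⁻¹ * -(B y (rv F₀ b))) = 1 := by
      rw [show -(B y (rv F₀ a)) * (φ⁻¹ * B x (rv F₀ b)) -
        B x (rv F₀ a) * (φ⁻¹ * -(B y (rv F₀ b))) = φ⁻¹ * φ by rw [hdet]; ring]
      exact inv_mul_cancel₀ hne
    rw [e, one_smul] at hp
    rw [← hp]
    congr 1 <;> simp only [nPart] <;> module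
  have hN' : ∀ z, nPart B x y z =
      φ⁻¹ • nPart B (nPart B x y (rv F₀ a)) (nPart B x y (rv F₀ b)) z := fun z => by
    simp only [nPart, map_sub, map_smul, LinearMap.sub_apply, LinearMap.smul_apply, smul_eq_mul]
    have hne' : B x (rv F₀ a) * B y (rv F₀ b) - B y (rv F₀ a) * B x (rv F₀ b) ≠ 0 := hdet ▸ hne
    rw [hdet]
    match_scalars <;> field_simp <;> ring
  set w := (φ⁻¹ * α) • rv F₀ b' - (φ⁻¹ * β) • rv F₀ a' with hw
  have hvw : B (rv F₀ v) w = 0 := by
    rw [hw, map_sub, map_smul, map_smul, hvb', hva']; simp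
  have hQw : Q w = 0 := by
    rw [hw, sub_eq_add_neg, ← neg_smul, C.smul_add, hQa, hQb, C.symm, hab']; ring
  have hab'' : B (rv F₀ a') (φ⁻¹ • rv F₀ b') = 0 := by rw [map_smul, hab', smul_zero]
  have hmemab : sGL Q B (rv F₀ a') (φ⁻¹ • rv F₀ b') ∈ H := by
    have h := X.sGL_rv (x := a') (a := (⟨φ⁻¹, F₀.inv_mem hφmem⟩ : F₀) • b') hQa₀
      (by rw [map_smul, hb0, smul_zero])
    rwa [rv_smul] at h
  have hprod : sGL Q B x y = sGL Q B (rv F₀ a') (φ⁻¹ • rv F₀ b') * sGL Q B (rv F₀ v) w := by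
    refine gl_ext fun z => ?_
    rw [root_act_nPart C hx hy hxy, hN', hα, hβ, mul_act,
      root_act_nPart C hQv hQw hvw, root_act_nPart C hQa (by rw [C.smul, hQb, mul_zero]) hab'']
    simp only [hw, nPart, map_add, map_sub, map_smul, LinearMap.add_apply, LinearMap.sub_apply,
      LinearMap.smul_apply, smul_eq_mul, C.symm (rv F₀ a') (rv F₀ v), C.symm (rv F₀ b') (rv F₀ v),
      hva', hvb', C.self_zero hQa, C.self_zero hQb, hab', C.symm (rv F₀ b') (rv F₀ a')]
    module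
  obtain ⟨e, r, hr⟩ := X.lambda hA hv hv0 hvw
    ((H.mul_mem_cancel_left hmemab).mp (hprod ▸ hS))
  rw [hN', hα, hβ, show φ⁻¹ • nPart B (rv F₀ a' + α • rv F₀ v) (rv F₀ b' + β • rv F₀ v) (rv F₀ z)
      = φ⁻¹ • nPart B (rv F₀ a') (rv F₀ b') (rv F₀ z) + nPart B (rv F₀ v) w (rv F₀ z) by
    simp only [hw, nPart, map_add, map_sub, map_smul, LinearMap.add_apply, LinearMap.sub_apply,
      LinearMap.smul_apply, smul_eq_mul]
    module, hr]
  simp only [nPart, map_add, map_smul, LinearMap.add_apply, LinearMap.smul_apply, X.B_rv,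
    smul_eq_mul]
  rw [show (B₀ v z : F) • (rv F₀ r + e • rv F₀ v) - ((B₀ r z : F) + e * (B₀ v z : F)) • rv F₀ v
    = (B₀ v z : F) • rv F₀ r - (B₀ r z : F) • rv F₀ v by module]
  exact (((ratv_rv b').smul (SetLike.coe_mem _)).sub ((ratv_rv a').smul (SetLike.coe_mem _))).smul
    (F₀.inv_mem hφmem) |>.add
    (((ratv_rv r).smul (SetLike.coe_mem _)).sub ((ratv_rv v).smul (SetLike.coe_mem _)))


theorem Ctx8.rv_eq_zero {x : ι → F₀} (h : rv F₀ x = 0) : x = 0 :=
  rv_injective F₀ (h.trans rv_zero'.symm)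

theorem Ctx8.q_rv {x : ι → F₀} (h : Q₀ x = 0) : Q (rv F₀ x) = 0 := by rw [X.compat, h]; rfl

theorem Ctx8.b_rv {x y : ι → F₀} (h : B₀ x y = 0) : B (rv F₀ x) (rv F₀ y) = 0 := by
  rw [X.B_rv, h]; rfl

/-- A root element fixing a rational vector is rational, unless the vector is non-singular and the
characteristic two. -/
theorem Ctx8.rat_of_perp (hA : ¬ CaseA Q B Q₀ B₀ H) {x y : ι → F} (hx : Q x = 0) (hy : Q y = 0)
    (hxy : B x y = 0) (hS : sGL Q B x y ∈ H) {w : ι → F₀} (hw0 : w ≠ 0)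
    (hw : Q₀ w = 0 ∨ (2 : F) ≠ 0) (hxw : B x (rv F₀ w) = 0) (hyw : B y (rv F₀ w) = 0)
    (z : ι → F₀) : Ratv F₀ (nPart B x y (rv F₀ z)) := by
  classical
  by_cases hQw : Q₀ w = 0
  · exact X.rat_of_fix hA hx hy hxy hS hQw hw0 hxw hyw z
  have h2 : (2 : F) ≠ 0 := hw.resolve_left hQw
  have h20 : (2 : F₀) ≠ 0 := fun h => h2 (congrArg Subtype.val h)
  have C := X.space
  have hNw : nPart B x y (rv F₀ w) = 0 := by simp [nPart, hxw, hyw]
  have hadd : ∀ p q, nPart B x y (p + q) = nPart B x y p + nPart B x y q := fun p q => by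
    simp only [nPart, map_add]; module
  have hsmul : ∀ (c : F) p, nPart B x y (c • p) = c • nPart B x y p := fun c p => by
    simp only [nPart, map_smul, smul_eq_mul]; module
  have hskew : ∀ p q : ι → F, B (nPart B x y p) q + B p (nPart B x y q) = 0 := fun p q => by
    simp [nPart, C.symm p x, C.symm p y]; ring
  have hN : ∀ u : ι → F₀, Q₀ u = 0 → u ≠ 0 → B₀ w u = 0 →
      ∃ (c : F) (r : ι → F₀), nPart B x y (rv F₀ u) = rv F₀ r + c • rv F₀ u := by
    intro u hu hu0 hwu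
    set n := nPart B x y (rv F₀ u) with hn
    have hQu := X.q_rv hu
    have huw : B (rv F₀ u) (rv F₀ w) = 0 := by rw [C.symm, X.b_rv hwu]
    have hQn : Q n = 0 := by
      rw [hn, nPart, sub_eq_add_neg, ← neg_smul, C.smul_add, hx, hy, C.symm y x, hxy]; ring
    have hun : B (rv F₀ u) n = 0 := by
      simp [hn, nPart, C.symm (rv F₀ u) x, C.symm (rv F₀ u) y]; ring
    have hnw : B n (rv F₀ w) = 0 := by simp [hn, nPart, hxw, hyw]
    have gw : (sGL Q B x y).val *ᵥ rv F₀ w = rv F₀ w := by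
      rw [root_act_nPart C hx hy hxy, hNw, add_zero]
    have gu : (sGL Q B x y).val *ᵥ rv F₀ u = rv F₀ u + n := root_act_nPart C hx hy hxy _
    have gu' : ((sGL Q B x y)⁻¹ : GL ι F).val *ᵥ rv F₀ u = rv F₀ u - n := by
      refine act_injective (sGL Q B x y) ?_
      show (sGL Q B x y).val *ᵥ _ = (sGL Q B x y).val *ᵥ _
      rw [act_inv, Matrix.mulVec_sub, gu, root_act_nPart C hx hy hxy n,
        show nPart B x y n = 0 by
          simp [hn, nPart, C.self_zero hx, C.self_zero hy, hxy, C.symm y x]]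
      abel
    have gw' : ((sGL Q B x y)⁻¹ : GL ι F).val *ᵥ rv F₀ w = rv F₀ w := by
      refine act_injective (sGL Q B x y) ?_
      show (sGL Q B x y).val *ᵥ _ = (sGL Q B x y).val *ᵥ _
      rw [act_inv, gw]
    have hu' := X.sGL_rv (x := u) (a := w) hu (by rw [X.space₀.symm, hwu])
    have h1 := mul_mem (mul_mem hS hu') (inv_mem hS)
    have h2' := mul_mem (mul_mem (inv_mem hS) hu') (inv_mem (inv_mem hS))
    rw [sGL_conj C hQu huw (X.le_iso hS), gu, gw] at h1
    rw [sGL_conj C hQu huw (X.le_iso (inv_mem hS)), gu', gw'] at h2'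
    have h := mul_mem h1 h2'
    rw [two_conj C hQu hQn hun huw hnw] at h
    obtain ⟨c, r, hr⟩ := X.lambda hA hu hu0 (by simp [huw, hun]) h
    have hk : (2 * Q₀ w : F₀) ≠ 0 := mul_ne_zero h20 hQw
    refine ⟨-((((2 * Q₀ w)⁻¹ : F₀) : F) * c), (2 * Q₀ w)⁻¹ • ((2 : F₀) • w - r), ?_⟩
    have hkF : ((2 * Q₀ w : F₀) : F) = 2 * Q (rv F₀ w) := by
      rw [X.compat]; push_cast; rfl
    rw [← hkF] at hr
    have e : ((2 * Q₀ w : F₀) : F) • n = rv F₀ ((2 : F₀) • w - r) - c • rv F₀ u := by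
      rw [rv_sub', rv_smul, show ((2 : F₀) : F) = 2 from rfl]
      rw [sub_eq_iff_eq_add] at hr
      rw [hr]; abel
    have e' : n = (((2 * Q₀ w)⁻¹ : F₀) : F) • (((2 * Q₀ w : F₀) : F) • n) := by
      rw [smul_smul, ← MulMemClass.coe_mul, inv_mul_cancel₀ hk, OneMemClass.coe_one, one_smul]
    rw [rv_smul, e', e]
    module
  have hc : ∀ u : ι → F₀, Q₀ u = 0 → B₀ w u = 0 → Ratv F₀ (nPart B x y (rv F₀ u)) := by
    intro u hu hwu
    by_cases hu0 : u = 0
    · rw [hu0, rv_zero']; simp [nPart, ratv_zero]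
    have huspan : u ∉ Submodule.span F₀ (({w} : Finset (ι → F₀)) : Set (ι → F₀)) := by
      rw [Finset.coe_singleton]
      intro hm
      obtain ⟨t, rfl⟩ := Submodule.mem_span_singleton.mp hm
      have ht : t ≠ 0 := fun h => hu0 (by rw [h, zero_smul])
      rw [X.space₀.smul] at hu
      exact hQw ((mul_eq_zero.mp hu).resolve_left (pow_ne_zero 2 ht))
    obtain ⟨u', hu', huu', hwu'⟩ := X.exists_sing_list {w} (by simp) huspan
    have hu'0 : u' ≠ 0 := fun h => by simp [h] at huu'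
    have hwu' := hwu' w (by simp)
    have hH : Hyp Q₀ B₀ ⊤ u u' := ⟨trivial, trivial, hu, hu', huu'⟩
    have hAle : Submodule.span F₀ {w} ≤ perp2 B₀ ⊤ u u' :=
      (Submodule.span_singleton_le_iff_mem _ _).mpr (mem_perp2.mpr
        ⟨trivial, by rw [X.space₀.symm]; exact hwu, by rw [X.space₀.symm]; exact hwu'⟩)
    obtain ⟨v, v', hV, hvA, -⟩ := exists_hyp_perpIn X.space₀ (X.split_pair hH) hAle (by
      have h1 := hH.le_finrank X.space₀
      have := X.card
      rw [finrank_top, finrank_fintype_fun_eq_card] at h1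
      rw [finrank_span_singleton hw0]
      omega)
    obtain ⟨-, huv, hu'v⟩ := mem_perp2.mp hV.memE.1
    have hwv : B₀ w v = 0 := hV.memE.2 w (Submodule.mem_span_singleton_self w)
    have hv0 : v ≠ 0 := fun h => hvA (h ▸ Submodule.zero_mem _)
    obtain ⟨cu, ru, eu⟩ := hN u hu hu0 hwu
    obtain ⟨cu', ru', eu'⟩ := hN u' hu' hu'0 hwu'
    obtain ⟨cv, rw', ev⟩ := hN v hV.singE hv0 hwv
    have hsum : cu + cu' ∈ F₀ := by
      have h := hskew (rv F₀ u) (rv F₀ u')
      rw [eu, eu'] at h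
      simp only [map_add, map_smul, LinearMap.add_apply, LinearMap.smul_apply, X.B_rv, huu',
        smul_eq_mul, OneMemClass.coe_one, mul_one] at h
      rw [show cu + cu' = -((B₀ ru u' : F) + (B₀ u ru' : F)) by linear_combination h]
      exact F₀.neg_mem (F₀.add_mem (SetLike.coe_mem _) (SetLike.coe_mem _))
    have diff : ∀ {p q : ι → F₀} {cp cq : F} {rp rq : ι → F₀}, Q₀ p = 0 → Q₀ q = 0 →
        B₀ p q = 0 → B₀ w p = 0 → B₀ w q = 0 → p ∉ Submodule.span F₀ {q} → q ≠ 0 →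
        nPart B x y (rv F₀ p) = rv F₀ rp + cp • rv F₀ p →
        nPart B x y (rv F₀ q) = rv F₀ rq + cq • rv F₀ q → cp - cq ∈ F₀ := by
      intro p q cp cq rp rq hp hq hpq hwp hwq hind hq0 ep eq
      have hind' : q ∉ Submodule.span F₀ {p} := fun hm => by
        obtain ⟨t, ht⟩ := Submodule.mem_span_singleton.mp hm
        have ht0 : t ≠ 0 := fun h => hq0 (by rw [← ht, h, zero_smul])
        exact hind (Submodule.mem_span_singleton.mpr
          ⟨t⁻¹, by rw [← ht, smul_smul, inv_mul_cancel₀ ht0, one_smul]⟩)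
      have hs0 : p + q ≠ 0 := fun h => hind (Submodule.mem_span_singleton.mpr
        ⟨-1, by rw [eq_neg_of_add_eq_zero_left h]; simp⟩)
      obtain ⟨cs, rs, es⟩ := hN (p + q) (by rw [X.space₀.add, hp, hq, hpq]; simp) hs0
        (by rw [map_add, hwp, hwq, add_zero])
      rw [rv_add, hadd, ep, eq] at es
      have hr : Ratv F₀ ((cs - cp) • rv F₀ p + (cs - cq) • rv F₀ q) :=
        ⟨rp + rq - rs, by
          rw [rv_sub', rv_add]
          linear_combination (norm := module) -es⟩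
      have h1 := coeff_mem hind hr
      rw [add_comm] at hr
      have h2 := coeff_mem hind' hr
      simpa using F₀.sub_mem h2 h1
    have hvu : v ∉ Submodule.span F₀ {u} := fun hm => by
      obtain ⟨c, hc⟩ := Submodule.mem_span_singleton.mp hm
      have h := hu'v
      rw [← hc, map_smul, X.space₀.symm u' u, huu', smul_eq_mul, mul_one] at h
      exact hv0 (by rw [← hc, h, zero_smul])
    have hvu' : v ∉ Submodule.span F₀ {u'} := fun hm => by
      obtain ⟨c, hc⟩ := Submodule.mem_span_singleton.mp hm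
      have h := huv
      rw [← hc, map_smul, huu', smul_eq_mul, mul_one] at h
      exact hv0 (by rw [← hc, h, zero_smul])
    have d1 := diff hV.singE hu (by rw [X.space₀.symm]; exact huv) hwv hwu hvu hu0 ev eu
    have d2 := diff hV.singE hu' (by rw [X.space₀.symm]; exact hu'v) hwv hwu' hvu' hu'0 ev eu'
    have h2c : (2 : F) * cu ∈ F₀ := by
      rw [show (2 : F) * cu = (cu + cu') - (cv - cu) + (cv - cu') by ring]
      exact F₀.add_mem (F₀.sub_mem hsum d1) d2
    have hcu : cu ∈ F₀ := by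
      have := F₀.mul_mem (F₀.inv_mem (show (2 : F) ∈ F₀ from (2 : F₀).2)) h2c
      rwa [← mul_assoc, inv_mul_cancel₀ h2, one_mul] at this
    rw [eu]
    exact (ratv_rv ru).add ((ratv_rv u).smul hcu)
  obtain ⟨p, p', hP, -⟩ := X.exists_hyp_list {w} (by simp)
  have hperp : ∀ t : ι → F₀, B₀ w t = 0 → Ratv F₀ (nPart B x y (rv F₀ t)) := fun t ht => by
    have htP : t ∈ perpIn B₀ ⊤ (Submodule.span F₀ (({w} : Finset (ι → F₀)) : Set (ι → F₀))) :=
      ⟨trivial, fun b hb => by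
        rw [Finset.coe_singleton] at hb
        obtain ⟨c, rfl⟩ := Submodule.mem_span_singleton.mp hb
        rw [map_smul, LinearMap.smul_apply, ht, smul_zero]⟩
    have hsp := hP.span X.space₀ htP
    clear ht htP
    induction hsp using Submodule.span_induction with
    | mem v hv => exact hc v hv.2 (hv.1.2 w (Submodule.subset_span (by simp)))
    | zero => rw [rv_zero']; simp [nPart, ratv_zero]
    | add s t _ _ hs ht => rw [rv_add, hadd]; exact hs.add ht
    | smul c s _ hs => rw [rv_smul, hsmul]; exact hs.smul c.2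
  have hk : (2 * Q₀ w : F₀) ≠ 0 := mul_ne_zero h20 hQw
  set t : F₀ := B₀ w z / (2 * Q₀ w) with ht
  have h := hperp (z - t • w) (by
    rw [map_sub, map_smul, X.space₀.self, smul_eq_mul, ht, div_mul_cancel₀ _ hk, sub_self])
  have hz : z - t • w + t • w = z := sub_add_cancel _ _
  rwa [← hz, rv_add, rv_smul, hadd, hsmul, hNw, smul_zero, add_zero]

/-- The common line of two rational planes is rational. -/
theorem Ctx8.rat_line (hA : ¬ CaseA Q B Q₀ B₀ H) {x y y' : ι → F} (hx : Q x = 0) (hy : Q y = 0)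
    (hy' : Q y' = 0) (hxy : B x y = 0) (hxy' : B x y' = 0) (hS : sGL Q B x y ∈ H)
    (hS' : sGL Q B x y' ∈ H) {w : ι → F₀} (hw0 : w ≠ 0) (hw : Q₀ w = 0 ∨ (2 : F) ≠ 0)
    (hxw : B x (rv F₀ w) = 0) (hyw : B y (rv F₀ w) = 0) (hy'w : B y' (rv F₀ w) = 0)
    (hx0 : x ≠ 0) (hind : y ∉ Submodule.span F {x}) (hind' : y' ∉ Submodule.span F {x, y}) :
    ∃ (μ : F) (x₀ : ι → F₀), x = μ • rv F₀ x₀ := by
  classical
  have C := X.space
  -- rational vectors spanning the plane of `x` and `y`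
  have plane : ∀ {y : ι → F}, Q y = 0 → B x y = 0 → sGL Q B x y ∈ H → B y (rv F₀ w) = 0 →
      y ∉ Submodule.span F {x} →
      ∃ r₁ r₂ : ι → F₀, rv F₀ r₁ ∈ Submodule.span F {x, y} ∧ rv F₀ r₂ ∈ Submodule.span F {x, y} ∧
        ∃ c₁ c₂ d₁ d₂ : F, x = c₁ • rv F₀ r₁ + c₂ • rv F₀ r₂ ∧
          y = d₁ • rv F₀ r₁ + d₂ • rv F₀ r₂ := by
    intro y hy hxy hS hyw hind
    have hindx : x ∉ Submodule.span F {y} := fun hm => by
      obtain ⟨c, hc⟩ := Submodule.mem_span_singleton.mp hm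
      have hc0 : c ≠ 0 := fun h => hx0 (by rw [← hc, h, zero_smul])
      exact hind (Submodule.mem_span_singleton.mpr
        ⟨c⁻¹, by rw [← hc, smul_smul, inv_mul_cancel₀ hc0, one_smul]⟩)
    obtain ⟨s, t, hδ⟩ : ∃ s t : ι → F₀,
        B x (rv F₀ s) * B y (rv F₀ t) - B x (rv F₀ t) * B y (rv F₀ s) ≠ 0 := by
      by_contra hne
      push Not at hne
      have h1 : ∀ s v, B x (rv F₀ s) * B y v - B x v * B y (rv F₀ s) = 0 := fun s v => by
        have := eq_zero_of_rv (F₀ := F₀) (B x (rv F₀ s) • B y - B y (rv F₀ s) • B x)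
          (fun t => by simpa [mul_comm] using hne s t) v
        simpa [mul_comm] using this
      have h2 : ∀ u v, B x u * B y v - B x v * B y u = 0 := fun u v => by
        have := eq_zero_of_rv (F₀ := F₀) (B y v • B x - B x v • B y)
          (fun s => by simpa [mul_comm] using h1 s v) u
        simpa [mul_comm] using this
      obtain ⟨u, hu, hxu⟩ := C.exists_perp hindx
      obtain ⟨v, hv, hyv⟩ := C.exists_perp hind
      have := h2 u v
      rw [hu y (Submodule.mem_span_singleton_self y), hv x (Submodule.mem_span_singleton_self x),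
        hxu, hyv] at this
      simp at this
    obtain ⟨r₁, hr₁⟩ := X.rat_of_perp hA hx hy hxy hS hw0 hw hxw hyw s
    obtain ⟨r₂, hr₂⟩ := X.rat_of_perp hA hx hy hxy hS hw0 hw hxw hyw t
    have hmem : ∀ v, nPart B x y v ∈ Submodule.span F {x, y} := fun v =>
      Submodule.sub_mem _ (Submodule.smul_mem _ _ (Submodule.subset_span (by simp)))
        (Submodule.smul_mem _ _ (Submodule.subset_span (by simp)))
    set δ := B x (rv F₀ s) * B y (rv F₀ t) - B x (rv F₀ t) * B y (rv F₀ s) with hδd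
    refine ⟨r₁, r₂, hr₁ ▸ hmem _, hr₂ ▸ hmem _, δ⁻¹ * B x (rv F₀ t), -(δ⁻¹ * B x (rv F₀ s)),
      δ⁻¹ * B y (rv F₀ t), -(δ⁻¹ * B y (rv F₀ s)), ?_, ?_⟩ <;>
    · rw [← hr₁, ← hr₂, nPart, nPart]
      match_scalars <;> field_simp <;> rw [hδd] <;> ring
  obtain ⟨r₁, r₂, hr₁, hr₂, c₁, c₂, -, -, hx12, -⟩ := plane hy hxy hS hyw hind
  obtain ⟨s₁, s₂, -, -, e₁, e₂, f₁, f₂, hx12', hy12'⟩ := plane hy' hxy' hS' hy'w fun hm =>
    hind' (Submodule.span_mono (by simp) hm)
  have hrat : ∀ {p q : ι → F₀} {a b : F}, x = a • rv F₀ p + b • rv F₀ q →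
      p ∉ Submodule.span F₀ {r₁, r₂} → ∃ (μ : F) (x₀ : ι → F₀), x = μ • rv F₀ x₀ := by
    intro p q a b he hp
    obtain ⟨ψ, hψp, hψ⟩ := exists_dot_sep hp
    have h := congrArg (rv F₀ ψ ⬝ᵥ ·) (he.symm.trans hx12)
    simp only [dotProduct_add, dotProduct_smul, rv_dot, hψp,
      hψ r₁ (Submodule.subset_span (by simp)), hψ r₂ (Submodule.subset_span (by simp)),
      smul_eq_mul, OneMemClass.coe_one, ZeroMemClass.coe_zero, mul_one, mul_zero, add_zero] at h
    refine ⟨b, q - (ψ ⬝ᵥ q) • p, ?_⟩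
    rw [he, rv_sub', rv_smul, show a = -(b * ((ψ ⬝ᵥ q : F₀) : F)) by linear_combination h]
    module
  by_cases h1 : s₁ ∈ Submodule.span F₀ {r₁, r₂}
  swap
  · exact hrat hx12' h1
  by_cases h2 : s₂ ∈ Submodule.span F₀ {r₁, r₂}
  swap
  · exact hrat (hx12'.trans (add_comm _ _)) h2
  exfalso
  refine hind' ?_
  have hy'mem : ∀ {r : ι → F₀}, r ∈ Submodule.span F₀ {r₁, r₂} →
      rv F₀ r ∈ Submodule.span F {rv F₀ r₁, rv F₀ r₂} := fun hr => by
    obtain ⟨a, b, rfl⟩ := Submodule.mem_span_pair.mp hr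
    rw [rv_add, rv_smul, rv_smul]
    exact Submodule.mem_span_pair.mpr ⟨_, _, rfl⟩
  have hle : Submodule.span F {rv F₀ r₁, rv F₀ r₂} ≤ Submodule.span F {x, y} :=
    Submodule.span_le.mpr (by rintro _ (rfl | rfl) <;> assumption)
  rw [hy12']
  exact Submodule.add_mem _ (Submodule.smul_mem _ _ (hle (hy'mem h1)))
    (Submodule.smul_mem _ _ (hle (hy'mem h2)))


theorem Ctx8.rule_rv {x y u v : ι → F₀} (h1 : GP Q₀ B₀ x y) (h2 : GP Q₀ B₀ u v)
    (hyu : B₀ y u = 0) (hyv : B₀ y v = 0) (hxv : B₀ x v = 0) (hxu : B₀ x u = 1) {a b : F}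
    (ha : sGL Q B (rv F₀ x) (a • rv F₀ y) ∈ H) (hb : sGL Q B (rv F₀ u) (b • rv F₀ v) ∈ H) :
    sGL Q B (rv F₀ y) ((a * b) • rv F₀ v) ∈ H := by
  have hq : ∀ {z : ι → F₀}, Q₀ z = 0 → Q (rv F₀ z) = 0 := fun h => by rw [X.compat, h]; rfl
  have hb0 : ∀ {z z' : ι → F₀}, B₀ z z' = 0 → B (rv F₀ z) (rv F₀ z') = 0 := fun h => by
    rw [X.B_rv, h]; rfl
  exact rule_coeff X.space X.le_iso (hq h1.singX) (hq h1.singY) (hq h2.singX) (hq h2.singY)
    (hb0 h1.perp) (hb0 h2.perp) (hb0 hyu) (hb0 hyv) (hb0 hxv) (by rw [X.B_rv, hxu]; rfl) ha hb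

theorem Ctx8.gp_next {x y v : ι → F₀} (h : GP Q₀ B₀ x y) (hv : Q₀ v = 0) (hxv : B₀ x v = 0)
    (hyv : B₀ y v = 0) (hind : v ∉ Submodule.span F₀ {x, y}) :
    GP Q₀ B₀ y v ∧ ∃ u, GP Q₀ B₀ u v ∧ B₀ y u = 0 ∧ B₀ x u = 1 := by
  classical
  have hv0 : v ≠ 0 := fun h0 => hind (h0 ▸ Submodule.zero_mem _)
  have hyspan : y ∉ Submodule.span F₀ {v} := fun hm => by
    obtain ⟨c, hc⟩ := Submodule.mem_span_singleton.mp hm
    have hc0 : c ≠ 0 := fun h0 => h.neY (by rw [← hc, h0, zero_smul])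
    refine hind ((Submodule.smul_mem_iff _ hc0).mp ?_)
    rw [hc]
    exact Submodule.subset_span (by simp)
  have hx : x ∉ Submodule.span F₀ (({y, v} : Finset (ι → F₀)) : Set (ι → F₀)) := fun hm => by
    rw [Finset.coe_insert, Finset.coe_singleton] at hm
    obtain ⟨s, t, hst⟩ := Submodule.mem_span_pair.mp hm
    by_cases ht : t = 0
    · exact h.indep (Submodule.mem_span_singleton.mpr ⟨s, by rw [← hst, ht, zero_smul, add_zero]⟩)
    · refine hind ((Submodule.smul_mem_iff _ ht).mp ?_)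
      rw [show t • v = x - s • y by rw [← hst]; abel]
      exact Submodule.sub_mem _ (Submodule.subset_span (by simp))
        (Submodule.smul_mem _ _ (Submodule.subset_span (by simp)))
  obtain ⟨u, hu, hxu, huS⟩ := X.exists_sing_list {y, v}
    (Finset.card_le_two.trans (by norm_num)) hx
  refine ⟨⟨h.singY, hv, hyv, hyspan, hv0⟩, u,
    ⟨hu, hv, by rw [X.space₀.symm]; exact huS v (by simp), fun hm => ?_, hv0⟩,
    huS y (by simp), hxu⟩
  obtain ⟨c, rfl⟩ := Submodule.mem_span_singleton.mp hm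
  rw [map_smul, hxv, smul_zero] at hxu
  exact zero_ne_one hxu

theorem Ctx8.one_good : Good Q B Q₀ B₀ H 1 := fun x y h => by
  rw [one_smul]; exact X.sGL_rv h.singX h.perp

theorem Ctx8.move {x y v : ι → F₀} {a : F} (h : GP Q₀ B₀ x y) (hv : Q₀ v = 0)
    (hxv : B₀ x v = 0) (hyv : B₀ y v = 0) (hind : v ∉ Submodule.span F₀ {x, y})
    (ha : sGL Q B (rv F₀ x) (a • rv F₀ y) ∈ H) :
    GP Q₀ B₀ y v ∧ sGL Q B (rv F₀ y) (a • rv F₀ v) ∈ H := by
  obtain ⟨hp, u, hu, hyu, hxu⟩ := X.gp_next h hv hxv hyv hind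
  refine ⟨hp, ?_⟩
  have := X.rule_rv h hu hyu hyv hxv hxu ha (X.one_good u v hu)
  rwa [mul_one] at this

/-- The rational root elements act in `H`. -/
theorem Ctx8.lift_root {k : GL ι F₀} (hk : k ∈ Root Q₀ B₀ ⊤) :
    ∃ g ∈ H, ∀ z : ι → F₀, g.val *ᵥ rv F₀ z = rv F₀ (k.val *ᵥ z) := by
  refine Subgroup.closure_induction
    (p := fun k _ => ∃ g ∈ H, ∀ z : ι → F₀, g.val *ᵥ rv F₀ z = rv F₀ (k.val *ᵥ z))
    ?_ ?_ ?_ ?_ hk
  · rintro _ ⟨u, a, -, -, hu, hua, rfl⟩
    refine ⟨_, X.sGL_rv hu hua, fun z => ?_⟩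
    rw [sGL_act X.space (by rw [X.compat, hu]; rfl) (by rw [X.B_rv, hua]; rfl),
      sGL_act X.space₀ hu hua, X.B_rv, X.B_rv, X.compat, rv_sub', rv_add, rv_smul, rv_smul]
    push_cast
    rfl
  · exact ⟨1, one_mem _, fun z => by simp⟩
  · rintro a b _ _ ⟨g, hg, hga⟩ ⟨g', hg', hgb⟩
    exact ⟨g * g', mul_mem hg hg', fun z => by rw [mul_act, hgb, hga, mul_act]⟩
  · rintro a _ ⟨g, hg, hga⟩
    refine ⟨g⁻¹, inv_mem hg, fun z => act_injective g ?_⟩
    show g.val *ᵥ _ = g.val *ᵥ _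
    rw [act_inv, hga, act_inv]

theorem Ctx8.good_of_one {x y : ι → F₀} {a : F} (h : GP Q₀ B₀ x y)
    (ha : sGL Q B (rv F₀ x) (a • rv F₀ y) ∈ H) : Good Q B Q₀ B₀ H a := by
  intro x' y' h'
  have S := X.space₀
  have hq : ∀ {z : ι → F₀}, Q₀ z = 0 → Q (rv F₀ z) = 0 := fun h => by rw [X.compat, h]; rfl
  have hb : ∀ {z z' : ι → F₀} (c : F), B₀ z z' = 0 → B (rv F₀ z) (c • rv F₀ z') = 0 := fun c h => by
    rw [map_smul, X.B_rv, h]; simp
  -- moving a pair of `H` by a rational root element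
  have move : ∀ {p q : ι → F₀} {k : GL ι F₀}, k ∈ Root Q₀ B₀ ⊤ → Q₀ p = 0 → B₀ p q = 0 →
      sGL Q B (rv F₀ p) (a • rv F₀ q) ∈ H →
      sGL Q B (rv F₀ (k.val *ᵥ p)) (a • rv F₀ (k.val *ᵥ q)) ∈ H := by
    intro p q k hk hp hpq hm
    obtain ⟨g, hg, hgz⟩ := X.lift_root hk
    have := mul_mem (mul_mem hg hm) (inv_mem hg)
    rwa [sGL_conj X.space (hq hp) (hb a hpq) (X.le_iso hg), Matrix.mulVec_smul, hgz, hgz] at this
  have hx0 : x ≠ 0 := fun e => h.indep (e ▸ Submodule.zero_mem _)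
  have hx'0 : x' ≠ 0 := fun e => h'.indep (e ▸ Submodule.zero_mem _)
  obtain ⟨k, hk, hkx⟩ := trans_top S X.five hx0 hx'0 (by rw [h.singX, h'.singX])
  have hkI := root_le_iso S _ hk
  have h1 := move hk h.singX h.perp ha
  rw [hkx] at h1
  set y1 := k.val *ᵥ y with hy1
  have g1 : GP Q₀ B₀ x' y1 := by
    refine ⟨h'.singX, by rw [hy1, mem_iso.mp hkI, h.singY], by rw [← hkx, hy1, S.B_act hkI, h.perp],
      fun hm => ?_, act_ne_zero h.neY⟩
    obtain ⟨c, hc⟩ := Submodule.mem_span_singleton.mp hm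
    rw [← hkx, hy1, ← Matrix.mulVec_smul] at hc
    exact h.indep (Submodule.mem_span_singleton.mpr ⟨c, act_injective k hc⟩)
  obtain ⟨f', hf⟩ := exists_hyp S S.ndeg_top (e := x') trivial hx'0 h'.singX
  -- the part of the second vector perpendicular to the hyperbolic pair
  have part : ∀ {q : ι → F₀}, GP Q₀ B₀ x' q →
      q - B₀ f' q • x' ∈ perp2 B₀ ⊤ x' f' ∧ Q₀ (q - B₀ f' q • x') = 0 ∧
        q - B₀ f' q • x' ≠ 0 := by
    intro q hq'
    refine ⟨mem_perp2.mpr ⟨trivial, ?_, ?_⟩, ?_, fun e => ?_⟩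
    · simp [hq'.perp, S.self_zero hq'.singX]
    · simp [hf.pair' S]
    · rw [sub_eq_add_neg, ← neg_smul, S.add, S.smul, hq'.singY, hq'.singX, map_smul,
        S.symm q x', hq'.perp]
      simp
    · rw [sub_eq_zero] at e
      have hc : B₀ f' q ≠ 0 := fun h0 => hq'.neY (by rw [e, h0, zero_smul])
      exact hq'.indep (Submodule.mem_span_singleton.mpr
        ⟨(B₀ f' q)⁻¹, (congrArg ((B₀ f' q)⁻¹ • ·) e).trans (by
          show (B₀ f' q)⁻¹ • (B₀ f' q • x') = x'
          rw [smul_smul, inv_mul_cancel₀ hc, one_smul])⟩)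
  obtain ⟨hw, hQw, hw0⟩ := part g1
  obtain ⟨hw', hQw', hw'0⟩ := part h'
  obtain ⟨m, hm, hmw⟩ := trans S (hf.ndeg S S.ndeg_top) (by
    have h2 := hf.le_finrank S
    have := X.card
    rw [finrank_top, finrank_fintype_fun_eq_card] at h2
    omega) hw hw' hw0 hw'0 (by rw [hQw, hQw'])
  have hmx : m.val *ᵥ x' = x' := (root_act S hm x').2 fun z hz => by
    rw [S.symm]; exact (mem_perp2.mp hz).2.1
  have hm' : m ∈ Root Q₀ B₀ ⊤ := root_mono le_top hm
  have drop : ∀ q : ι → F₀, B₀ x' q = 0 → ∀ c : F₀, sGL Q B (rv F₀ x') (a • rv F₀ (q + c • x')) =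
      sGL Q B (rv F₀ x') (a • rv F₀ q) := fun q hq' c => by
    rw [rv_add, rv_smul, smul_add, smul_smul, sGL_add_self X.space (hq h'.singX) (hb a hq')]
  have hxw := (mem_perp2.mp hw).2.1
  rw [show y1 = (y1 - B₀ f' y1 • x') + B₀ f' y1 • x' by abel, drop _ hxw] at h1
  have h2 := move hm' h'.singX hxw h1
  rw [hmx, hmw] at h2
  rw [show y' = (y' - B₀ f' y' • x') + B₀ f' y' • x' by abel, drop _ (mem_perp2.mp hw').2.1]
  exact h2

theorem Ctx8.good_mul {a b : F} (ha : Good Q B Q₀ B₀ H a) (hb : Good Q B Q₀ B₀ H b)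
    {x y : ι → F₀} (h : GP Q₀ B₀ x y) : Good Q B Q₀ B₀ H (a * b) := by
  classical
  obtain ⟨v, v', hV, hvA, -⟩ := X.exists_hyp_list {x, y} (Finset.card_le_two.trans (by norm_num))
  have hin : ∀ {z : ι → F₀}, z ∈ ({x, y} : Finset (ι → F₀)) → B₀ z v = 0 := fun hz =>
    hV.memE.2 _ (Submodule.subset_span hz)
  obtain ⟨hp, u, hu, hyu, hxu⟩ := X.gp_next h hV.singE (hin (by simp)) (hin (by simp))
    (by simpa using hvA)
  exact X.good_of_one hp (X.rule_rv h hu hyu (hin (by simp)) (hin (by simp)) hxu (ha x y h)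
    (hb u v hu))

theorem Ctx8.good_all {r : ℕ} (hr : r.Prime) (hcard : Nat.card F = Nat.card F₀ ^ r)
    (hA : CaseA Q B Q₀ B₀ H) (c : F) : Good Q B Q₀ B₀ H c := by
  obtain ⟨x, y, β, hx, hy, hxy, hind, hy0, hβ, hmem⟩ := hA
  have hp : GP Q₀ B₀ x y := ⟨hx, hy, hxy, hind, hy0⟩
  let S : Subalgebra F₀ F :=
    { carrier := {c | Good Q B Q₀ B₀ H c}
      mul_mem' := fun {a b} ha hb => X.good_mul ha hb hp
      add_mem' := by
        intro s t hs ht p q h
        have hq : Q (rv F₀ p) = 0 := by rw [X.compat, h.singX]; rfl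
        have hb : B (rv F₀ p) (rv F₀ q) = 0 := by rw [X.B_rv, h.perp]; rfl
        rw [add_smul, ← sGL_mul X.space hq (by rw [map_smul, hb, smul_zero])
          (by rw [map_smul, hb, smul_zero])]
        exact mul_mem (hs p q h) (ht p q h)
      algebraMap_mem' := by
        intro t p q h
        show sGL Q B (rv F₀ p) ((t : F) • rv F₀ q) ∈ H
        rw [← rv_smul]
        exact X.sGL_rv h.singX (by rw [map_smul, h.perp, smul_zero]) }
  have hfr : (Module.finrank F₀ F).Prime := by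
    have h1 := Module.natCard_eq_pow_finrank (K := F₀) (V := F)
    rw [hcard] at h1
    rwa [← Nat.pow_right_injective Finite.one_lt_card h1]
  haveI := Subalgebra.isSimpleOrder_of_finrank_prime F₀ F hfr
  have htop : S = ⊤ := by
    refine (eq_bot_or_eq_top S).resolve_left fun hb => hβ ?_
    have hcS : β ∈ S := X.good_of_one hp hmem
    rw [hb, Algebra.mem_bot] at hcS
    obtain ⟨t, ht⟩ := hcS
    exact ht ▸ t.2
  exact show c ∈ S by rw [htop]; exact Algebra.mem_top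

/-- Every vector perpendicular to a rational singular vector is spanned by rational singular
vectors perpendicular to it. -/
theorem Ctx8.perp_le_span {e : ι → F₀} (he : Q₀ e = 0) (he0 : e ≠ 0) {a : ι → F}
    (ha : B (rv F₀ e) a = 0) :
    a ∈ Submodule.span F (rv F₀ '' {w : ι → F₀ | Q₀ w = 0 ∧ B₀ e w = 0}) := by
  classical
  set M := Submodule.span F (rv F₀ '' {w : ι → F₀ | Q₀ w = 0 ∧ B₀ e w = 0})
  obtain ⟨f, hf⟩ := exists_hyp X.space₀ X.space₀.ndeg_top (e := e) trivial he0 he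
  obtain ⟨p, p', hP, -⟩ := X.exists_hyp_list {e} (by simp)
  have hz : ∀ z : ι → F₀, B₀ e z = 0 → rv F₀ z ∈ M := fun z hz => by
    have hzP : z ∈ perpIn B₀ ⊤ (Submodule.span F₀ (({e} : Finset (ι → F₀)) : Set (ι → F₀))) :=
      ⟨trivial, fun b hb => by
        rw [Finset.coe_singleton] at hb
        obtain ⟨c, rfl⟩ := Submodule.mem_span_singleton.mp hb
        rw [map_smul, LinearMap.smul_apply, hz, smul_zero]⟩
    have hsp := hP.span X.space₀ hzP
    clear hz hzP
    induction hsp using Submodule.span_induction with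
    | mem w hw => exact Submodule.subset_span ⟨w, ⟨hw.2, hw.1.2 e (Submodule.subset_span (by simp))⟩, rfl⟩
    | zero => rw [rv_zero']; exact M.zero_mem
    | add s t _ _ hs ht => rw [rv_add]; exact M.add_mem hs ht
    | smul c s _ hs => rw [rv_smul]; exact M.smul_mem _ hs
  have key : ∀ a : ι → F, a - B (rv F₀ e) a • rv F₀ f ∈ M := fun a => by
    let Φ : (ι → F) →ₗ[F] (ι → F) := LinearMap.id - (B (rv F₀ e)).smulRight (rv F₀ f)
    show Φ a ∈ M
    rw [pi_eq_sum_univ' a, map_sum]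
    refine M.sum_mem fun i _ => ?_
    rw [map_smul]
    refine M.smul_mem _ ?_
    show Pi.single i 1 - B (rv F₀ e) (Pi.single i 1) • rv F₀ f ∈ M
    rw [← rv_single_mem (F₀ := F₀), X.B_rv, ← rv_smul, ← rv_sub']
    exact hz _ (by rw [map_sub, map_smul, hf.pair]; simp)
  simpa [ha] using key a

theorem Ctx8.centre {r : ℕ} (hr : r.Prime) (hcard : Nat.card F = Nat.card F₀ ^ r)
    (hA : CaseA Q B Q₀ B₀ H) {e : ι → F₀} (he : Q₀ e = 0) (he0 : e ≠ 0) :
    Centre Q B H (rv F₀ e) := by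
  have hQe : Q (rv F₀ e) = 0 := by rw [X.compat, he]; rfl
  intro a ha
  have hle : Submodule.span F (rv F₀ '' {w : ι → F₀ | Q₀ w = 0 ∧ B₀ e w = 0}) ≤
      rootsAt Q B X.space H (rv F₀ e) hQe := by
    rw [Submodule.span_le]
    rintro _ ⟨w, ⟨hw, hew⟩, rfl⟩
    have hew' : B (rv F₀ e) (rv F₀ w) = 0 := by rw [X.B_rv, hew]; rfl
    refine ⟨hew', fun c => ?_⟩
    by_cases hs : w ∈ Submodule.span F₀ {e}
    · obtain ⟨t, rfl⟩ := Submodule.mem_span_singleton.mp hs
      rw [rv_smul, smul_smul, ← zero_add ((c * (t : F)) • rv F₀ e),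
        sGL_add_self X.space hQe (map_zero _)]
      have : sGL Q B (rv F₀ e) 0 = 1 := gl_ext fun x => by
        rw [sGL_act X.space hQe (map_zero _), X.space.zero]; simp
      rw [this]
      exact one_mem H
    · have hw0 : w ≠ 0 := fun h => hs (h ▸ Submodule.zero_mem _)
      refine X.good_all hr hcard hA c e w ⟨he, hw, hew, fun hm => ?_, hw0⟩
      obtain ⟨t, ht⟩ := Submodule.mem_span_singleton.mp hm
      have ht0 : t ≠ 0 := fun h => he0 (by rw [← ht, h, zero_smul])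
      exact hs (Submodule.mem_span_singleton.mpr
        ⟨t⁻¹, by rw [← ht, smul_smul, inv_mul_cancel₀ ht0, one_smul]⟩)
  have := (hle (X.perp_le_span he he0 ha)).2 1
  rwa [one_smul] at this

/-- An irrational root element with rational centres generates `Ω`. -/
theorem Ctx8.omega_le_of_caseA {r : ℕ} (hr : r.Prime) (hcard : Nat.card F = Nat.card F₀ ^ r)
    (hA : CaseA Q B Q₀ B₀ H) : Cfsg.Geo.omegaGL Q ≤ H := by
  obtain ⟨e, f, hef⟩ := exists_hyp' X.space₀ X.space₀.ndeg_top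
    (by rw [finrank_top, finrank_fintype_fun_eq_card]; have := X.card; omega)
  have he0 : e ≠ 0 := fun h => by simpa [h] using hef.pair
  have hf0 : f ≠ 0 := fun h => by simpa [h] using hef.pair
  refine omega_le_of_two X.space X.five X.le_iso (e := rv F₀ e) (f := rv F₀ f)
    (by rw [X.compat, hef.singE]; rfl) (by rw [X.compat, hef.singF]; rfl)
    (by rw [X.B_rv, hef.pair]; simp) (X.centre hr hcard hA hef.singE he0)
    (X.centre hr hcard hA hef.singF hf0)


end Cfsg.Lib.Linear.OrthSub8
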