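import Cfsg.Agent.Lib.Linear.OrthEight.Ctx
import Cfsg.Agent.Lib.Linear.NondegFix.TypeSum

/-!
# Intertwined rational involutions in dimension eight

An element of `H` carrying a rational totally singular line fixed (or negated) by a rational
involution into a position perpendicular to a rational vector maps that line to a rational line,
then its points to rational points, and is rational up to a scalar.
-/

set_option autoImplicit false

namespace Cfsg.Lib.Linear.OrthSub8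

open Module
open scoped Matrix
open Cfsg.Lib.Linear.Orth Cfsg.Lib.Linear.Rat0 Cfsg.Lib.Linear.OrthSub

variable {ι : Type} [Fintype ι] [DecidableEq ι] {F : Type*} [Field F] {F₀ : Subfield F}
  {Q : (ι → F) → F} {B : LinearMap.BilinForm F (ι → F)} {Q₀ : (ι → F₀) → F₀}
  {B₀ : LinearMap.BilinForm F₀ (ι → F₀)} {H : Subgroup (GL ι F)}
  [Finite F] (X : Ctx8 Q B Q₀ B₀ H)

include X

/-- A singular vector of a subspace outside a smaller one. -/
theorem Ctx8.exists_sing_out (P A : Submodule F₀ (ι → F₀))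
    (h : finrank F₀ A + 3 ≤ finrank F₀ P) :
    ∃ t ∈ P, t ∉ A ∧ t ≠ 0 ∧ Q₀ t = 0 := by
  obtain ⟨A', hA'⟩ := A.exists_isCompl
  obtain ⟨t, ht, ht0, hQt⟩ := Sing.exists_singular X.space₀.smul X.space₀.polar (P ⊓ A') (by
    have h1 := Submodule.finrank_sup_add_finrank_inf_eq P A'
    have h2 := Submodule.finrank_le (P ⊔ A')
    have h4 := Submodule.finrank_add_eq_of_isCompl hA'
    omega)
  refine ⟨t, ht.1, fun hm => ht0 ?_, ht0, hQt⟩
  have : t ∈ A ⊓ A' := ⟨hm, ht.2⟩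
  rwa [hA'.inf_eq_bot, Submodule.mem_bot] at this

/-- A perpendicular pair of singular vectors in a subspace of dimension at least five. -/
theorem Ctx8.exists_gp_big (P : Submodule F₀ (ι → F₀)) (h : 5 ≤ finrank F₀ P) :
    ∃ x ∈ P, ∃ y ∈ P, GP Q₀ B₀ x y := by
  obtain ⟨e, he, he0, hQe⟩ := Sing.exists_singular X.space₀.smul X.space₀.polar P (by omega)
  have hd := finrank_perpIn (B := B₀) P (Submodule.span F₀ {e})
  rw [finrank_span_singleton he0] at hd
  obtain ⟨t, ht, hte, -, hQt⟩ := X.exists_sing_out (perpIn B₀ P (Submodule.span F₀ {e}))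
    (Submodule.span F₀ {e}) (by rw [finrank_span_singleton he0]; omega)
  refine ⟨t, ht.1, e, he, ⟨hQt, hQe, ?_, hte, he0⟩⟩
  rw [X.space₀.symm]
  exact ht.2 e (Submodule.mem_span_singleton_self e)

omit [Finite F] in
/-- A perpendicular pair in a totally singular subspace of dimension at least two. -/
theorem Ctx8.exists_gp_ts (M : Submodule F₀ (ι → F₀)) (h : 2 ≤ finrank F₀ M)
    (hM : ∀ x ∈ M, Q₀ x = 0) : ∃ x ∈ M, ∃ y ∈ M, GP Q₀ B₀ x y := by
  obtain ⟨y, hy, hy0⟩ := Submodule.exists_mem_ne_zero_of_ne_bot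
    (p := M) (fun e => by rw [e, finrank_bot] at h; omega)
  obtain ⟨x, hx, hxy⟩ : ∃ x ∈ M, x ∉ Submodule.span F₀ {y} := by
    by_contra hne
    push Not at hne
    have := Submodule.finrank_mono (show M ≤ Submodule.span F₀ {y} from hne)
    rw [finrank_span_singleton hy0] at this
    omega
  refine ⟨x, hx, y, hy, ⟨hM x hx, hM y hy, ?_, hxy, hy0⟩⟩
  have := hM _ (M.add_mem hx hy)
  rw [X.space₀.add, hM x hx, hM y hy] at this
  simpa using this

/-- The plane of a root element of `H` fixing a rational vector is rational. -/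
theorem Ctx8.plane (hA : ¬ CaseA Q B Q₀ B₀ H) {x y : ι → F} (hx : Q x = 0) (hy : Q y = 0)
    (hxy : B x y = 0) (hS : sGL Q B x y ∈ H) {w : ι → F₀} (hw0 : w ≠ 0)
    (hw : Q₀ w = 0 ∨ (2 : F) ≠ 0) (hxw : B x (rv F₀ w) = 0) (hyw : B y (rv F₀ w) = 0)
    (hx0 : x ≠ 0) (hind : y ∉ Submodule.span F {x}) :
      ∃ r₁ r₂ : ι → F₀, rv F₀ r₁ ∈ Submodule.span F {x, y} ∧ rv F₀ r₂ ∈ Submodule.span F {x, y} ∧
        ∃ c₁ c₂ d₁ d₂ : F, x = c₁ • rv F₀ r₁ + c₂ • rv F₀ r₂ ∧
          y = d₁ • rv F₀ r₁ + d₂ • rv F₀ r₂ := by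
  classical
  have C := X.space
  have hindx : x ∉ Submodule.span F {y} := fun hm => by
    obtain ⟨c, hc⟩ := Submodule.mem_span_singleton.mp hm
    have hc0 : c ≠ 0 := fun h => hx0 (by rw [← hc, h, zero_smul])
    exact hind (Submodule.mem_span_singleton.mpr
      ⟨c⁻¹, by rw [← hc, smul_smul, inv_mul_cancel₀ hc0, one_smul]⟩)
  obtain ⟨s, t, hδ⟩ : ∃ s t : ι → F₀,
      B x (rv F₀ s) * B y (rv F₀ t) - B x (rv F₀ t) * B y (rv F₀ s) ≠ 0 := by
    by_contra hne
    push Not at hne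
    have h1 : ∀ s v, B x (rv F₀ s) * B y v - B x v * B y (rv F₀ s) = 0 := fun s v => by
      have := eq_zero_of_rv (F₀ := F₀) (B x (rv F₀ s) • B y - B y (rv F₀ s) • B x)
        (fun t => by simpa [mul_comm] using hne s t) v
      simpa [mul_comm] using this
    have h2 : ∀ u v, B x u * B y v - B x v * B y u = 0 := fun u v => by
      have := eq_zero_of_rv (F₀ := F₀) (B y v • B x - B x v • B y)
        (fun s => by simpa [mul_comm] using h1 s v) u
      simpa [mul_comm] using this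
    obtain ⟨u, hu, hxu⟩ := C.exists_perp hindx
    obtain ⟨v, hv, hyv⟩ := C.exists_perp hind
    have := h2 u v
    rw [hu y (Submodule.mem_span_singleton_self y), hv x (Submodule.mem_span_singleton_self x),
      hxu, hyv] at this
    simp at this
  obtain ⟨r₁, hr₁⟩ := X.rat_of_perp hA hx hy hxy hS hw0 hw hxw hyw s
  obtain ⟨r₂, hr₂⟩ := X.rat_of_perp hA hx hy hxy hS hw0 hw hxw hyw t
  have hmem : ∀ v, nPart B x y v ∈ Submodule.span F {x, y} := fun v =>
    Submodule.sub_mem _ (Submodule.smul_mem _ _ (Submodule.subset_span (by simp)))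
      (Submodule.smul_mem _ _ (Submodule.subset_span (by simp)))
  set δ := B x (rv F₀ s) * B y (rv F₀ t) - B x (rv F₀ t) * B y (rv F₀ s) with hδd
  refine ⟨r₁, r₂, hr₁ ▸ hmem _, hr₂ ▸ hmem _, δ⁻¹ * B x (rv F₀ t), -(δ⁻¹ * B x (rv F₀ s)),
    δ⁻¹ * B y (rv F₀ t), -(δ⁻¹ * B y (rv F₀ s)), ?_, ?_⟩ <;>
  · rw [← hr₁, ← hr₂, nPart, nPart]
    match_scalars <;> field_simp <;> rw [hδd] <;> ring

omit [Finite F] in
/-- Independence survives the action of a matrix and extension of scalars. -/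
theorem Ctx8.act_indep {g : GL ι F} {p y : ι → F₀} (h : p ∉ Submodule.span F₀ {y}) :
    g.val *ᵥ rv F₀ p ∉ Submodule.span F {g.val *ᵥ rv F₀ y} := fun hm => by
  obtain ⟨s, hs⟩ := Submodule.mem_span_singleton.mp hm
  rw [← Matrix.mulVec_smul] at hs
  have hs' : s • rv F₀ y = rv F₀ p := act_injective g hs
  obtain ⟨ψ, h1, h2⟩ := exists_dot_one h
  have := congrArg (rv F₀ ψ ⬝ᵥ ·) hs'
  simp [dotProduct_smul, rv_dot, h1, h2] at this

/-- An element of `H` carrying a rational line next to a rational vector carries each of its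
points to a rational point. -/
theorem Ctx8.line_point (hA : ¬ CaseA Q B Q₀ B₀ H) {g : GL ι F} (hg : g ∈ H) {p y : ι → F₀}
    (hp : GP Q₀ B₀ p y) {w : ι → F₀} (hw0 : w ≠ 0) (hw : Q₀ w = 0 ∨ (2 : F) ≠ 0)
    (hpw : B (g.val *ᵥ rv F₀ p) (rv F₀ w) = 0) (hyw : B (g.val *ᵥ rv F₀ y) (rv F₀ w) = 0) :
    ∃ (μ : F) (p' : ι → F₀), g.val *ᵥ rv F₀ p = μ • rv F₀ p' := by
  classical
  have C := X.space
  have S := X.space₀
  have hgI := X.le_iso hg
  have conj : ∀ {a b : ι → F₀}, Q₀ a = 0 → B₀ a b = 0 →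
      sGL Q B (g.val *ᵥ rv F₀ a) (g.val *ᵥ rv F₀ b) ∈ H := fun ha hab => by
    have h := mul_mem (mul_mem hg (X.sGL_rv ha hab)) (inv_mem hg)
    rwa [sGL_conj C (X.q_rv ha) (X.b_rv hab) hgI] at h
  have hsing : ∀ {a : ι → F₀}, Q₀ a = 0 → Q (g.val *ᵥ rv F₀ a) = 0 := fun ha => by
    rw [mem_iso.mp hgI, X.q_rv ha]
  have hperp : ∀ {a b : ι → F₀}, B₀ a b = 0 → B (g.val *ᵥ rv F₀ a) (g.val *ᵥ rv F₀ b) = 0 :=
    fun h => by rw [C.B_act hgI, X.b_rv h]
  have hp0 : p ≠ 0 := fun e => hp.indep (e ▸ Submodule.zero_mem _)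
  have hgp0 : g.val *ᵥ rv F₀ p ≠ 0 := act_ne_zero fun h => hp0 (X.rv_eq_zero h)
  have hyp : y ∉ Submodule.span F₀ {p} := fun hm => by
    obtain ⟨c, hc⟩ := Submodule.mem_span_singleton.mp hm
    have hc0 : c ≠ 0 := fun h0 => hp.neY (by rw [← hc, h0, zero_smul])
    exact hp.indep (Submodule.mem_span_singleton.mpr
      ⟨c⁻¹, by rw [← hc, smul_smul, inv_mul_cancel₀ hc0, one_smul]⟩)
  obtain ⟨r₁, r₂, hr₁, hr₂, c₁, c₂, -, -, hxe, -⟩ := X.plane hA (hsing hp.singX) (hsing hp.singY)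
    (hperp hp.perp) (conj hp.singX hp.perp) hw0 hw hpw hyw hgp0 (X.act_indep hyp)
  obtain ⟨r, hr, hr0⟩ : ∃ r : ι → F₀, rv F₀ r ∈ Submodule.span F
      {g.val *ᵥ rv F₀ p, g.val *ᵥ rv F₀ y} ∧ r ≠ 0 := by
    by_cases h1 : r₁ = 0
    · exact ⟨r₂, hr₂, fun h2 => hgp0 (by rw [hxe, h1, h2, rv_zero']; simp)⟩
    · exact ⟨r₁, hr₁, h1⟩
  obtain ⟨a, b, hab⟩ := Submodule.mem_span_pair.mp hr
  have hQr : Q₀ r = 0 := Subtype.ext (by
    rw [← X.compat, ← hab, C.smul_add, hsing hp.singX, hsing hp.singY, hperp hp.perp]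
    simp)
  -- a third rational singular vector perpendicular to the line
  have hdA : finrank F₀ (Submodule.span F₀ {p, y}) ≤ 2 := finrank_span_pair_le p y
  have hd := finrank_perpIn (B := B₀) ⊤ (Submodule.span F₀ {p, y})
  obtain ⟨t, ht, htA, -, hQt⟩ := X.exists_sing_out (perpIn B₀ ⊤ (Submodule.span F₀ {p, y}))
    (Submodule.span F₀ {p, y}) (by
      have := X.card
      rw [finrank_top, finrank_fintype_fun_eq_card] at hd
      omega)
  have hpt : B₀ p t = 0 := ht.2 p (Submodule.subset_span (by simp))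
  have hyt : B₀ y t = 0 := ht.2 y (Submodule.subset_span (by simp))
  have hr' : ∀ {z : ι → F}, B z (g.val *ᵥ rv F₀ p) = 0 → B z (g.val *ᵥ rv F₀ y) = 0 →
      B z (rv F₀ r) = 0 := fun h1 h2 => by rw [← hab]; simp [h1, h2]
  refine X.rat_line hA (hsing hp.singX) (hsing hp.singY) (hsing hQt) (hperp hp.perp) (hperp hpt)
    (conj hp.singX hp.perp) (conj hp.singX hpt) hr0 (Or.inl hQr)
    (hr' (hperp (S.self_zero hp.singX)) (hperp hp.perp))
    (hr' (hperp (by rw [S.symm, hp.perp])) (hperp (S.self_zero hp.singY)))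
    (hr' (hperp (by rw [S.symm, hpt])) (hperp (by rw [S.symm, hyt])))
    hgp0 (X.act_indep hyp) fun h => ?_
  obtain ⟨s, u, hs⟩ := Submodule.mem_span_pair.mp h
  rw [← Matrix.mulVec_smul, ← Matrix.mulVec_smul, ← Matrix.mulVec_add] at hs
  have hs' : s • rv F₀ p + u • rv F₀ y = rv F₀ t := act_injective g hs
  obtain ⟨ψ, h1, h2⟩ := exists_dot_sep htA
  have := congrArg (rv F₀ ψ ⬝ᵥ ·) hs'
  simp [dotProduct_add, dotProduct_smul, rv_dot, h1, h2 p (Submodule.subset_span (by simp)),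
    h2 y (Submodule.subset_span (by simp))] at this

/-- An element of `H` mapping one rational singular point to a rational point is rational up to a
scalar. -/
theorem Ctx8.ratG_of_point (hA : ¬ CaseA Q B Q₀ B₀ H) {g : GL ι F} (hg : g ∈ H) {p p' : ι → F₀}
    {lam : F} (hQp : Q₀ p = 0) (hp0 : p ≠ 0) (hgp : g.val *ᵥ rv F₀ p = lam • rv F₀ p') :
    RatG F₀ g := by
  classical
  have C := X.space
  have hgI := X.le_iso hg
  have hlam : lam ≠ 0 := fun h => act_ne_zero (g := g) (fun h' => hp0 (X.rv_eq_zero h'))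
    (by rw [hgp, h, zero_smul])
  have hp'0 : p' ≠ 0 := fun h => act_ne_zero (g := g) (fun h' => hp0 (X.rv_eq_zero h'))
    (by rw [hgp, h, rv_zero', smul_zero])
  have hQp' : Q₀ p' = 0 := Subtype.ext (by
    have h := mem_iso.mp hgI (rv F₀ p)
    rw [hgp, C.smul, X.compat, X.compat, hQp, ZeroMemClass.coe_zero, mul_eq_zero] at h
    exact h.resolve_left (pow_ne_zero 2 hlam))
  -- the singular points perpendicular to `p`
  have spread : ∀ t, Q₀ t = 0 → B₀ p t = 0 → t ∉ Submodule.span F₀ {p} →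
      ∃ (μ : F) (t' : ι → F₀), g.val *ᵥ rv F₀ t = μ • rv F₀ t' := fun t ht hpt hind => by
    refine X.line_point hA hg (p := t) (y := p)
      ⟨ht, hQp, by rw [X.space₀.symm, hpt], hind, hp0⟩ hp'0 (Or.inl hQp') ?_ ?_
    · have h : B (g.val *ᵥ rv F₀ t) (g.val *ᵥ rv F₀ p) = 0 := by
        rw [C.B_act hgI, C.symm, X.b_rv hpt]
      rw [hgp, map_smul, smul_eq_zero] at h
      exact h.resolve_left hlam
    · rw [hgp, map_smul, LinearMap.smul_apply, C.self_zero (X.q_rv hQp'), smul_zero]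
  obtain ⟨e, f, hHp, hep, hfp⟩ := X.exists_hyp_list {p} (by simp)
  rw [Finset.coe_singleton] at hep hfp
  have hpe : B₀ p e = 0 := hHp.memE.2 p (Submodule.subset_span (by simp))
  have hpf : B₀ p f = 0 := hHp.memF.2 p (Submodule.subset_span (by simp))
  have hH : Hyp Q₀ B₀ ⊤ e f := ⟨trivial, trivial, hHp.singE, hHp.singF, hHp.pair⟩
  have he0 : e ≠ 0 := fun h => by simpa [h] using hH.pair
  have hf0 : f ≠ 0 := fun h => by simpa [h] using hH.pair
  obtain ⟨μ, e', he'⟩ := spread e hH.singE hpe hep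
  obtain ⟨ν, f', hf'⟩ := spread f hH.singF hpf hfp
  have hμ : μ ≠ 0 := fun h => act_ne_zero (g := g) (fun h' => he0 (X.rv_eq_zero h'))
    (by rw [he', h, zero_smul])
  have hν : ν ≠ 0 := fun h => act_ne_zero (g := g) (fun h' => hf0 (X.rv_eq_zero h'))
    (by rw [hf', h, zero_smul])
  have hpair : μ * ν * (B₀ e' f' : F) = 1 := by
    have h := C.B_act hgI (rv F₀ e) (rv F₀ f)
    rw [he', hf', map_smul, map_smul, LinearMap.smul_apply, X.B_rv, X.B_rv, hH.pair] at h
    simp only [smul_eq_mul, OneMemClass.coe_one] at h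
    linear_combination h
  have hk : μ * ν ∈ F₀ := by
    rw [eq_inv_of_mul_eq_one_left hpair]; exact F₀.inv_mem (SetLike.coe_mem _)
  have hB' : (B₀ e' f' : F) ≠ 0 := fun h => by rw [h, mul_zero] at hpair; exact zero_ne_one hpair
  -- the two centres
  have two : ∀ {c c' d d' : ι → F₀} {μ ν : F}, Q₀ c = 0 → c ≠ 0 → μ ≠ 0 → ν ≠ 0 →
      g.val *ᵥ rv F₀ c = μ • rv F₀ c' → g.val *ᵥ rv F₀ d = ν • rv F₀ d' →
      (B₀ d' c' : F) ≠ 0 → ∀ t, B₀ c t = 0 → B₀ d t = 0 →
      Ratv F₀ (μ • g.val *ᵥ rv F₀ t) := by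
    intro c c' d d' μ ν hc hc0 hμ hν hgc hgd hne t hct hdt
    have hgt : B (μ • rv F₀ c') (g.val *ᵥ rv F₀ t) = 0 := by
      rw [← hgc, C.B_act hgI, X.b_rv hct]
    have hQc' : Q₀ c' = 0 := Subtype.ext (by
      have h := mem_iso.mp hgI (rv F₀ c)
      rw [hgc, C.smul, X.compat, X.compat, hc, ZeroMemClass.coe_zero, mul_eq_zero] at h
      exact h.resolve_left (pow_ne_zero 2 hμ))
    have hgt' : B (rv F₀ c') (μ • g.val *ᵥ rv F₀ t) = 0 := by
      rwa [map_smul, LinearMap.smul_apply, ← map_smul] at hgt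
    have h := mul_mem (mul_mem hg (X.sGL_rv hc hct)) (inv_mem hg)
    rw [sGL_conj C (X.q_rv hc) (X.b_rv hct) hgI, hgc, sGL_smul C (X.q_rv hQc') (by
      rw [← hgt', map_smul]
      rw [map_smul, smul_eq_zero] at hgt'
      rw [hgt'.resolve_left hμ, smul_zero])] at h
    obtain ⟨k, r, hr⟩ := X.lambda hA hQc' (fun h0 => by simp [h0] at hne) hgt' h
    have h1 := congrArg (B (rv F₀ d')) hr
    have h2 : B (ν • rv F₀ d') (g.val *ᵥ rv F₀ t) = 0 := by
      rw [← hgd, C.B_act hgI, X.b_rv hdt]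
    rw [map_smul, LinearMap.smul_apply, smul_eq_zero] at h2
    rw [map_smul, h2.resolve_left hν, smul_zero, map_add, map_smul, X.B_rv, X.B_rv,
      smul_eq_mul] at h1
    have hk' : k = -(B₀ d' r : F) / (B₀ d' c' : F) := by
      field_simp
      linear_combination -h1
    rw [hr]
    refine (ratv_rv r).add ((ratv_rv c').smul ?_)
    rw [hk']
    exact F₀.div_mem (F₀.neg_mem (SetLike.coe_mem _)) (SetLike.coe_mem _)
  have he2 : (B₀ f' e' : F) ≠ 0 := by rwa [X.space₀.symm]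
  have k1 := two hH.singE he0 hμ hν he' hf' he2
  have k2 := two hH.singF hf0 hν hμ hf' he' hB'
  have hμ2 : μ * μ ∈ F₀ := by
    obtain ⟨t0, t0', hT0, -⟩ := X.exists_hyp_list {e, f} (Finset.card_le_two.trans (by norm_num))
    have ht0 : t0 ≠ 0 := fun h => by simpa [h] using hT0.pair
    have h1 := hT0.memE.2 e (Submodule.subset_span (by simp))
    have h2 := hT0.memE.2 f (Submodule.subset_span (by simp))
    obtain ⟨r1, hr1⟩ := k1 t0 h1 h2
    obtain ⟨r2, hr2⟩ := k2 t0 h2 h1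
    obtain ⟨i, hi⟩ := Function.ne_iff.mp (act_ne_zero (g := g) fun h => ht0 (X.rv_eq_zero h))
    have a1 := congrFun hr1 i
    have a2 := congrFun hr2 i
    simp only [Pi.smul_apply, smul_eq_mul, rv] at a1 a2
    have hr2i : (r2 i : F) ≠ 0 := by rw [← a2]; exact mul_ne_zero hν hi
    have : μ * μ = μ * ν * ((r1 i : F) / (r2 i : F)) := by
      rw [← a1, ← a2, mul_div_mul_right _ _ (by simpa using hi)]; field_simp
    rw [this]
    exact F₀.mul_mem hk (F₀.div_mem (SetLike.coe_mem _) (SetLike.coe_mem _))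
  refine ⟨μ, hμ, fun i j => ?_⟩
  have hall : ∀ z, Ratv F₀ (μ • g.val *ᵥ rv F₀ z) := fun z => by
    set t := z - B₀ f z • e - B₀ e z • f
    have htd : z = t + (B₀ f z • e + B₀ e z • f) := by simp only [t]; abel
    have ht := hH
    have h1 : B₀ e t = 0 := by
      simp only [t, map_sub, map_smul, X.space₀.self_zero hH.singE, hH.pair, smul_eq_mul,
        mul_zero, mul_one, sub_zero, sub_self]
    have h2 : B₀ f t = 0 := by
      simp only [t, map_sub, map_smul, X.space₀.self_zero hH.singF, hH.pair' X.space₀, smul_eq_mul,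
        mul_zero, mul_one, sub_zero, sub_self]
    rw [htd, rv_add, rv_add, rv_smul, rv_smul, Matrix.mulVec_add, Matrix.mulVec_add,
      Matrix.mulVec_smul, Matrix.mulVec_smul, he', hf', smul_add, smul_add]
    refine (k1 t h1 h2).add (Ratv.add ?_ ?_)
    · rw [smul_smul, smul_smul, show μ * (B₀ f z : F) * μ = μ * μ * (B₀ f z : F) by ring]
      exact (ratv_rv e').smul (F₀.mul_mem hμ2 (SetLike.coe_mem _))
    · rw [smul_smul, smul_smul, show μ * (B₀ e z : F) * ν = μ * ν * (B₀ e z : F) by ring]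
      exact (ratv_rv f').smul (F₀.mul_mem hk (SetLike.coe_mem _))
  obtain ⟨r, hr⟩ := hall (Pi.single j 1)
  have := congrFun hr i
  rw [rv_single_mem, Pi.smul_apply, Matrix.mulVec_single_one, smul_eq_mul] at this
  exact this ▸ (r i).2


omit [Finite F] in
theorem Ctx8.sing_or_two {T : (ι → F₀) →ₗ[F₀] (ι → F₀)} {b : GL ι F}
    (hbI : b ∈ isometryGroup F Q) (hb : (2 : F) = 0 → b ∈ H)
    (hb2 : b * b = 1) (hb1 : b ≠ 1) (hT : ∀ z, rv F₀ (T z) = b.val *ᵥ rv F₀ z - rv F₀ z)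
    [Finite F] : ∃ w ∈ LinearMap.range T, w ≠ 0 ∧ (Q₀ w = 0 ∨ (2 : F) ≠ 0) := by
  classical
  have C := X.space
  obtain ⟨z, hz⟩ : ∃ z, T z ≠ 0 := by
    by_contra h
    push Not at h
    refine hb1 (gl_ext fun v => ?_)
    have := eq_zero_of_rv (F₀ := F₀) (Matrix.toLin' b.val - LinearMap.id) (fun e => by
      rw [LinearMap.sub_apply, LinearMap.id_apply, Matrix.toLin'_apply, ← hT, h, rv_zero']) v
    rw [LinearMap.sub_apply, LinearMap.id_apply, Matrix.toLin'_apply, sub_eq_zero] at this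
    simpa using this
  by_cases h2 : (2 : F) = 0
  swap
  · exact ⟨T z, ⟨z, rfl⟩, hz, Or.inr h2⟩
  by_contra hne
  push Not at hne
  have hne' : ∀ w ∈ LinearMap.range T, Q₀ w = 0 → w = 0 := fun w hw h => by
    by_contra h0
    exact (hne w hw h0).1 h
  have h20 : (2 : F₀) = 0 := Subtype.ext h2
  have hneg : ∀ v : F, -v = v := fun v => by linear_combination (-v) * h2
  have hbinv : ∀ v, b.val *ᵥ (b.val *ᵥ v) = v := fun v => by
    rw [← mul_act, hb2]; simp
  have hsymm : ∀ u v, B (b.val *ᵥ u) v = B u (b.val *ᵥ v) := fun u v => by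
    conv_lhs => rw [← hbinv v, C.B_act hbI]
  have hiso : ∀ u v, B₀ (T u) (T v) = 0 := fun u v => Subtype.ext (by
    rw [← X.B_rv, hT, hT, map_sub, map_sub, LinearMap.sub_apply, LinearMap.sub_apply,
      C.B_act hbI, hsymm]
    show _ = ((0 : F₀) : F)
    push_cast
    linear_combination (B (rv F₀ u) (rv F₀ v) - B (rv F₀ u) (b.val *ᵥ rv F₀ v)) * h2)
  set w := T z with hw
  have hQw : Q₀ w ≠ 0 := fun h => hz (hne' w ⟨z, rfl⟩ h)
  have hline : ∀ t, ∃ c : F₀, T t = c • w := by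
    intro t
    obtain ⟨s, hs⟩ : IsSquare (Q₀ (T t) / Q₀ w) := FiniteField.isSquare_of_char_two
      (ringChar.eq_iff.mpr (CharTwo.of_one_ne_zero_of_two_eq_zero one_ne_zero h20)) _
    refine ⟨s, sub_eq_zero.mp (hne' _ (Submodule.sub_mem _ ⟨t, rfl⟩
      (Submodule.smul_mem _ _ ⟨z, rfl⟩)) ?_)⟩
    have hss : Q₀ (T t) = s * s * Q₀ w := by rw [← hs, div_mul_cancel₀ _ hQw]
    rw [sub_eq_add_neg, ← neg_smul, X.space₀.add, X.space₀.smul, map_smul, hiso, hss]
    simp only [smul_zero, add_zero]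
    linear_combination s * s * Q₀ w * h20
  set W := rv F₀ w with hW
  have hQW : Q W ≠ 0 := by
    rw [hW, X.compat]; exact fun h => hQw (Subtype.ext h)
  choose c hc using hline
  let φ : (ι → F₀) →ₗ[F₀] F₀ :=
    { toFun := c
      map_add' := fun s t => by
        have h := map_add T s t
        rw [hc, hc, hc, ← add_smul] at h
        exact smul_left_injective F₀ hz h
      map_smul' := fun k t => by
        have h := map_smul T k t
        rw [hc, hc, smul_smul] at h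
        exact smul_left_injective F₀ hz h }
  let ψ : (ι → F₀) →ₗ[F₀] F₀ := (Q₀ w)⁻¹ • B₀ w
  have hprod : ∀ t, φ t = 0 ∨ φ t = ψ t := fun t => by
    have hbt : b.val *ᵥ rv F₀ t = rv F₀ t + (c t : F) • W := by
      rw [hW, ← rv_smul, ← hc, hT]; abel
    have h := mem_iso.mp hbI (rv F₀ t)
    rw [hbt, C.add, C.smul, map_smul, hW, X.compat, X.compat, X.B_rv] at h
    have h' : c t * c t * Q₀ w + c t * B₀ t w = 0 := Subtype.ext (by
      push_cast; simp only [smul_eq_mul] at h; linear_combination h)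
    by_cases h0 : c t = 0
    · exact Or.inl h0
    · refine Or.inr ?_
      show c t = (Q₀ w)⁻¹ * B₀ w t
      rw [X.space₀.symm w t]
      have h'' : c t * Q₀ w + B₀ t w = 0 := by
        refine (mul_eq_zero.mp ?_).resolve_left h0
        linear_combination h'
      rw [eq_inv_mul_iff_mul_eq₀ hQw]
      linear_combination h'' - B₀ t w * h20
  have hφψ : ∀ t, φ t = ψ t := by
    obtain ⟨t₁, ht₁⟩ : ∃ t, φ t ≠ 0 := ⟨z, fun h => hz (by
      rw [hw]
      show T z = 0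
      rw [hc z]
      show c z • w = 0
      rw [show c z = 0 from h, zero_smul])⟩
    intro t
    rcases hprod t with h | h
    · have h1 := (hprod t₁).resolve_left ht₁
      rcases hprod (t₁ + t) with h' | h'
      · rw [map_add, h, add_zero] at h'; exact absurd h' ht₁
      · rw [map_add, map_add, h1] at h'; exact add_left_cancel h'
    · exact h
  have hbeq : b = rGL Q W := gl_ext fun v => by
    have := eq_zero_of_rv (F₀ := F₀) (Matrix.toLin' b.val - Matrix.toLin' (rGL Q W).val)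
      (fun t => by
        rw [LinearMap.sub_apply, Matrix.toLin'_apply, Matrix.toLin'_apply, rGL_act C hQW,
          show b.val *ᵥ rv F₀ t = rv F₀ t + (φ t : F) • W by
            rw [hW, ← rv_smul]; show _ = _ + rv F₀ (c t • w); rw [← hc, hT]; abel,
          hφψ, hW, X.B_rv, X.compat]
        show rv F₀ t + (((Q₀ w)⁻¹ * B₀ w t : F₀) : F) • _ - _ = 0
        push_cast
        linear_combination (norm := module)
          congrArg (fun k => (((Q₀ w : F))⁻¹ * (B₀ w t : F) * k) • rv F₀ w) h2) v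
    rwa [LinearMap.sub_apply, Matrix.toLin'_apply, Matrix.toLin'_apply, sub_eq_zero] at this
  exact rGL_notMem_omega C h2 X.five hQW (hbeq ▸ X.le (hb h2))


/-- A rational totally singular line which an involution fixes, or negates in odd characteristic. -/
theorem Ctx8.exists_invol_line (hminus : ¬ Cfsg.Geo.IsPlusTypeOn Q₀ ⊤)
    (h8 : Fintype.card ι = 8) {a : GL ι F} (haI : a ∈ isometryGroup F Q) {d : ℕ}
    (hinv : RatInvol F₀ a d) (hd2 : (2 : F) = 0 → d ≤ 4) :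
    ∃ x y, GP Q₀ B₀ x y ∧ ((a.val *ᵥ rv F₀ x = rv F₀ x ∧ a.val *ᵥ rv F₀ y = rv F₀ y) ∨
      ((2 : F) ≠ 0 ∧ a.val *ᵥ rv F₀ x = -rv F₀ x ∧ a.val *ᵥ rv F₀ y = -rv F₀ y)) := by
  classical
  have C := X.space
  obtain ⟨hE, ha2, -, hK⟩ := hinv
  obtain ⟨T, hT⟩ := exists_moved_map hE
  have hAd := finrank_moved_le hE hT hK
  have hainv : ∀ v, a.val *ᵥ (a.val *ᵥ v) = v := fun v => by rw [← mul_act, ha2]; simp
  have hfix : ∀ z, (∀ t, B₀ (T t) z = 0) → a.val *ᵥ rv F₀ z = rv F₀ z := fun z hz => by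
    refine sub_eq_zero.mp (C.nondeg' fun u => eq_zero_of_rv (F₀ := F₀) _ (fun t => ?_) u)
    have h1 : B (a.val *ᵥ rv F₀ z) (rv F₀ t) = B (rv F₀ z) (a.val *ᵥ rv F₀ t) := by
      conv_lhs => rw [← hainv (rv F₀ t), C.B_act haI]
    rw [map_sub, LinearMap.sub_apply, h1, ← map_sub, ← hT, X.B_rv, X.space₀.symm, hz]
    rfl
  set A := LinearMap.range T with hAdef
  set U := perpIn B₀ ⊤ A with hUdef
  have hfix' : ∀ z ∈ U, a.val *ᵥ rv F₀ z = rv F₀ z :=
    fun z hz => hfix z fun t => hz.2 _ ⟨t, rfl⟩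
  have hdU : 8 ≤ finrank F₀ U + finrank F₀ A := by
    have := finrank_perpIn (B := B₀) ⊤ A
    rwa [finrank_top, finrank_fintype_fun_eq_card, h8] at this
  by_cases h2 : (2 : F) = 0
  · have h20 : (2 : F₀) = 0 := Subtype.ext h2
    have hAA : ∀ u ∈ A, ∀ v ∈ A, B₀ u v = 0 := by
      rintro _ ⟨t, rfl⟩ _ ⟨u, rfl⟩
      refine Subtype.ext ?_
      have h1 : B (a.val *ᵥ rv F₀ t) (rv F₀ u) = B (rv F₀ t) (a.val *ᵥ rv F₀ u) := by
        conv_lhs => rw [← hainv (rv F₀ u), C.B_act haI]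
      rw [← X.B_rv, hT, hT]
      simp only [map_sub, LinearMap.sub_apply, C.B_act haI, h1]
      show _ = (0 : F)
      linear_combination (B (rv F₀ t) (rv F₀ u) - B (rv F₀ t) (a.val *ᵥ rv F₀ u)) * h2
    by_cases hsmall : finrank F₀ A ≤ 2
    · obtain ⟨x, hx, y, hy, hxy⟩ := X.exists_gp_big U (by omega)
      exact ⟨x, y, hxy, Or.inl ⟨hfix' x hx, hfix' y hy⟩⟩
    -- the singular vectors of the moved space
    haveI : CharP F₀ 2 := CharTwo.of_one_ne_zero_of_two_eq_zero one_ne_zero h20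
    let S₀ : Submodule F₀ (ι → F₀) :=
      { carrier := {x | x ∈ A ∧ Q₀ x = 0}
        add_mem' := fun {u v} hu hv => ⟨A.add_mem hu.1 hv.1, by
          rw [X.space₀.add, hu.2, hv.2, hAA u hu.1 v hv.1]; simp⟩
        zero_mem' := ⟨A.zero_mem, X.space₀.zero⟩
        smul_mem' := fun k u hu => ⟨A.smul_mem k hu.1, by rw [X.space₀.smul, hu.2, mul_zero]⟩ }
    have hS : 2 ≤ finrank F₀ S₀ := by
      by_cases hex : ∃ α ∈ A, Q₀ α ≠ 0
      · obtain ⟨α, hαA, hQα⟩ := hex
        have hle : A ≤ S₀ ⊔ Submodule.span F₀ {α} := fun x hx => by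
          obtain ⟨s, hs⟩ := FiniteField.isSquare_of_char_two (ringChar.eq F₀ 2) (Q₀ x / Q₀ α)
          rw [show x = (x + s • α) + (-s) • α by rw [neg_smul]; abel]
          refine Submodule.add_mem_sup ⟨A.add_mem hx (A.smul_mem s hαA), ?_⟩
            (Submodule.mem_span_singleton.mpr ⟨-s, rfl⟩)
          rw [X.space₀.add, X.space₀.smul, map_smul, hAA x hx α hαA, smul_zero, add_zero, sq, ← hs,
            div_mul_cancel₀ _ hQα]
          linear_combination Q₀ x * h20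
        have h1 := (Submodule.finrank_mono hle).trans
          (Submodule.finrank_add_le_finrank_add_finrank _ _)
        rw [finrank_span_singleton (fun h => hQα (by rw [h, X.space₀.zero]))] at h1
        omega
      · push Not at hex
        have h1 := Submodule.finrank_mono (show A ≤ S₀ from fun x hx => ⟨hx, hex x hx⟩)
        omega
    obtain ⟨x, hx, y, hy, hxy⟩ := X.exists_gp_ts S₀ hS fun x hx => hx.2
    exact ⟨x, y, hxy, Or.inl ⟨hfix' x ⟨trivial, fun z hz => hAA z hz x hx.1⟩,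
      hfix' y ⟨trivial, fun z hz => hAA z hz y hy.1⟩⟩⟩
  have h20 : (2 : F₀) ≠ 0 := fun h => h2 (congrArg Subtype.val h)
  have hUT : ∀ z ∈ U, T z = 0 := fun z hz => rv_injective F₀ (by
    rw [hT, hfix' z hz, sub_self, rv_zero'])
  have hTT : ∀ t, T (T t) = (-2 : F₀) • T t := fun t => rv_injective F₀ (by
    rw [rv_smul, hT (T t), hT, Matrix.mulVec_sub, hainv]
    push_cast
    rw [show ((2 : F₀) : F) = 2 from rfl]
    module)
  have hneg : ∀ z ∈ A, a.val *ᵥ rv F₀ z = -rv F₀ z := by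
    rintro _ ⟨t, rfl⟩
    have h := congrArg (rv F₀) (hTT t)
    rw [hT (T t), rv_smul] at h
    push_cast at h
    rw [show ((2 : F₀) : F) = 2 from rfl] at h
    linear_combination (norm := module) h
  have hperp : ∀ z, T z = 0 → z ∈ U := fun z hz => ⟨trivial, by
    rintro _ ⟨t, rfl⟩
    have hz' : a.val *ᵥ rv F₀ z = rv F₀ z := sub_eq_zero.mp (by rw [← hT, hz, rv_zero'])
    refine Subtype.ext ?_
    rw [← X.B_rv, hT, map_sub, LinearMap.sub_apply]
    conv_lhs => arg 1; rw [← hz', C.B_act haI]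
    rw [sub_self]
    rfl⟩
  have hsup : U ⊔ A = ⊤ := eq_top_iff.mpr fun t _ => by
    rw [show t = (t + (2 : F₀)⁻¹ • T t) + -((2 : F₀)⁻¹ • T t) by abel]
    refine Submodule.add_mem_sup (hperp _ ?_) (A.neg_mem (A.smul_mem _ ⟨t, rfl⟩))
    rw [map_add, map_smul, hTT, smul_smul, mul_neg, inv_mul_cancel₀ h20]
    simp
  have orth : ∀ u ∈ U, ∀ w ∈ A, B₀ u w = 0 := fun u hu w hw => by
    rw [X.space₀.symm]; exact hu.2 w hw
  have S : Split Q₀ B₀ U A := by
    refine ⟨fun x hx hxy => X.space₀.nondeg' fun u => ?_,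
      fun x hx hxy => X.space₀.nondeg' fun u => ?_, orth, hsup⟩
    all_goals
      obtain ⟨p, hp, q, hq, rfl⟩ := Submodule.mem_sup.mp (hsup ▸ Submodule.mem_top : u ∈ U ⊔ A)
      rw [map_add]
    · rw [hxy p hp, orth x hx q hq, add_zero]
    · rw [hxy q hq, X.space₀.symm x p, orth p hp x hx, add_zero]
  have hsum := S.finrank_add X.space₀
  rw [h8] at hsum
  by_cases hU5 : 5 ≤ finrank F₀ U
  · obtain ⟨x, hx, y, hy, hxy⟩ := X.exists_gp_big U hU5
    exact ⟨x, y, hxy, Or.inl ⟨hfix' x hx, hfix' y hy⟩⟩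
  by_cases hA5 : 5 ≤ finrank F₀ A
  · obtain ⟨x, hx, y, hy, hxy⟩ := X.exists_gp_big A hA5
    exact ⟨x, y, hxy, Or.inr ⟨h2, hneg x hx, hneg y hy⟩⟩
  -- two four-spaces of opposite types
  have hU4 : finrank F₀ U = 2 * 2 := by omega
  have hA4 : finrank F₀ A = 2 * 2 := by omega
  have htype := NondegFix.type_sum X.space₀ hU4 hA4 S.ndU S.ndW S.orth
  rw [hsup] at htype
  by_cases hp : Cfsg.Geo.IsPlusTypeOn Q₀ U
  · obtain ⟨M, hMU, hM, hMd⟩ := hp
    obtain ⟨x, hx, y, hy, hxy⟩ := X.exists_gp_ts M (by omega) hM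
    exact ⟨x, y, hxy, Or.inl ⟨hfix' x (hMU hx), hfix' y (hMU hy)⟩⟩
  have hpA : Cfsg.Geo.IsPlusTypeOn Q₀ A := by
    by_contra hn
    exact hminus (htype.mpr (iff_of_false hp hn))
  obtain ⟨M, hMA, hM, hMd⟩ := hpA
  obtain ⟨x, hx, y, hy, hxy⟩ := X.exists_gp_ts M (by omega) hM
  exact ⟨x, y, hxy, Or.inr ⟨h2, hneg x (hMA hx), hneg y (hMA hy)⟩⟩

/-- An element of `H` intertwining two rational involutions is rational up to a scalar. -/
theorem Ctx8.ratG_of_intertwine (hminus : ¬ Cfsg.Geo.IsPlusTypeOn Q₀ ⊤)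
    (h8 : Fintype.card ι = 8) (hA : ¬ CaseA Q B Q₀ B₀ H) {g a b : GL ι F} (hg : g ∈ H)
    (ha : a ∈ isometryGroup F Q) (hb : b ∈ isometryGroup F Q) (hbH : (2 : F) = 0 → b ∈ H) {d : ℕ}
    (hia : RatInvol F₀ a d) (hib : RatInvol F₀ b d) (hgab : g * a = b * g) (hd : d < 8)
    (hd2 : (2 : F) = 0 → d ≤ 4) : RatG F₀ g := by
  classical
  have C := X.space
  obtain ⟨T, hT⟩ := exists_moved_map hib.1
  obtain ⟨x, y, hxy, hline⟩ := X.exists_invol_line hminus h8 ha hia hd2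
  have hbg : ∀ v, b.val *ᵥ (g.val *ᵥ v) = g.val *ᵥ (a.val *ᵥ v) := fun v => by
    rw [← mul_act, ← hgab, mul_act]
  obtain ⟨w, hw0, hw, hxw, hyw⟩ : ∃ w : ι → F₀, w ≠ 0 ∧ (Q₀ w = 0 ∨ (2 : F) ≠ 0) ∧
      B (g.val *ᵥ rv F₀ x) (rv F₀ w) = 0 ∧ B (g.val *ᵥ rv F₀ y) (rv F₀ w) = 0 := by
    rcases hline with ⟨hax, hay⟩ | ⟨h2, hax, hay⟩
    · obtain ⟨w, ⟨t, htw⟩, hw0, hw⟩ := X.sing_or_two hb hbH hib.2.1 hib.2.2.1 hT
      have key : ∀ {z : ι → F₀}, a.val *ᵥ rv F₀ z = rv F₀ z →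
          B (g.val *ᵥ rv F₀ z) (rv F₀ w) = 0 := fun {z} hz => by
        have hbz := hbg (rv F₀ z)
        rw [hz] at hbz
        rw [← htw, hT, map_sub]
        conv_lhs => arg 1; rw [← hbz, C.B_act hb]
        rw [sub_self]
      exact ⟨w, hw0, hw, key hax, key hay⟩
    · obtain ⟨w, hwT, hw0⟩ := Submodule.exists_mem_ne_zero_of_ne_bot
        (p := LinearMap.ker T) (fun e => by
          have h1 := LinearMap.finrank_range_add_finrank_ker T
          have h3 := finrank_moved_le hib.1 hT hib.2.2.2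
          rw [e, finrank_bot, finrank_fintype_fun_eq_card, h8] at h1
          omega)
      have hbw : b.val *ᵥ rv F₀ w = rv F₀ w := sub_eq_zero.mp (by
        rw [← hT, LinearMap.mem_ker.mp hwT, rv_zero'])
      have key : ∀ {z : ι → F₀}, a.val *ᵥ rv F₀ z = -rv F₀ z →
          B (g.val *ᵥ rv F₀ z) (rv F₀ w) = 0 := fun {z} hz => by
        have hbz := hbg (rv F₀ z)
        rw [hz, Matrix.mulVec_neg] at hbz
        have h := C.B_act hb (g.val *ᵥ rv F₀ z) (rv F₀ w)
        rw [hbz, hbw, map_neg, LinearMap.neg_apply] at h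
        refine (mul_eq_zero.mp (?_ : (2 : F) * _ = 0)).resolve_left h2
        linear_combination -h
      exact ⟨w, hw0, Or.inr h2, key hax, key hay⟩
  obtain ⟨μ, x', hx'⟩ := X.line_point hA hg hxy hw0 hw hxw hyw
  exact X.ratG_of_point hA hg hxy.singX (fun e => hxy.indep (e ▸ Submodule.zero_mem _)) hx'

end Cfsg.Lib.Linear.OrthSub8
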