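import Cfsg.Agent.Lib.Linear.OrthEight.Fix
import Cfsg.Agent.Lib.Linear.OrthSubfieldMax
import Cfsg.Agent.Lib.Linear.ClassSp.WitnessOmega

/-!
# Subfield groups of odd prime index in eight-dimensional orthogonal groups of minus type
-/

set_option autoImplicit false

namespace Cfsg.Lib.Linear.OrthSub8

open Module
open scoped Matrix commutatorElement
open Cfsg.Lib.Linear.Orth Cfsg.Lib.Linear.Rat0 Cfsg.Lib.Linear.OrthSub

section Invol

variable {ι : Type} [Fintype ι] [DecidableEq ι] {F : Type*} [Field F] {F₀ : Subfield F}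

/-- An involution rational up to a scalar is rational if `F₀` has no quadratic extension in `F`. -/
theorem entries_of_ratG_sq (hsq : ∀ c : F, c * c ∈ F₀ → c ∈ F₀) {w : GL ι F} (hw2 : w * w = 1)
    (hw : RatG F₀ w) : ∀ a b, (w : Matrix ι ι F) a b ∈ F₀ := by
  obtain ⟨c, hc, h⟩ := hw
  let A : Matrix ι ι F₀ := Matrix.of fun a b => ⟨_, h a b⟩
  have hA : A.map F₀.subtype = c • (w : Matrix ι ι F) := rfl
  intro a b
  have hcc : c * c ∈ F₀ := by
    have h1 : ((A * A).map F₀.subtype) a a = c * c := by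
      rw [Matrix.map_mul, hA, Matrix.smul_mul, Matrix.mul_smul, smul_smul, ← Units.val_mul, hw2,
        Units.val_one, Matrix.smul_apply, Matrix.one_apply_eq, smul_eq_mul, mul_one]
    rw [← h1]
    exact ((A * A) a a).2
  have := F₀.mul_mem (F₀.inv_mem (hsq c hcc)) (h a b)
  rwa [← mul_assoc, inv_mul_cancel₀ hc, one_mul] at this

/-- The involution trick, for involutions not conjugate in `L`. -/
theorem ratG_of_involutions_sq [Finite F] {L : Subgroup (GL ι F)} {j k : GL ι F} {dj dk : ℕ}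
    (hsq : ∀ c : F, c * c ∈ F₀ → c ∈ F₀)
    (hjL : j ∈ L) (hkL : k ∈ L)
    (hj : RatInvol F₀ j dj) (hk : RatInvol F₀ k dk) (hne : ∀ C ∈ L, k ≠ C * j * C⁻¹)
    (hfail : ∀ g ∈ L, ∀ a ∈ L, ∀ b ∈ L, RatInvol F₀ a (dj + dk) → RatInvol F₀ b (dj + dk) →
      g * a = b * g → RatG F₀ g)
    {h : GL ι F} (hh : h ∈ L) : RatG F₀ h := by
  have hcomm : ∀ (i w : GL ι F) (d : ℕ), RatInvol F₀ i d → d ≤ dj + dk → (d = dj ∨ d = dk) →
      i ∈ L → w ∈ L → w * i = i * w → RatG F₀ w := by
    intro i w d hi hd hde hiL hw hwi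
    have hi' : RatInvol F₀ i (dj + dk) := ⟨hi.1, hi.2.1, hi.2.2.1, hi.2.2.2.trans (by omega)⟩
    exact hfail w hw i hiL i hiL hi' hi' hwi
  set k' := h * k * h⁻¹ with hk'
  have hj2 := hj.2.1
  have hk'2 : k' * k' = 1 := by
    rw [hk', show h * k * h⁻¹ * (h * k * h⁻¹) = h * (k * k) * h⁻¹ by group, hk.2.1, mul_one,
      mul_inv_cancel]
  have hji : j⁻¹ = j := inv_eq_of_mul_eq_one_right hj2
  have hki : k'⁻¹ = k' := inv_eq_of_mul_eq_one_right hk'2
  set g := j * k' with hg
  have hgi : g⁻¹ = k' * j := by rw [hg, mul_inv_rev, hji, hki]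
  have hjg : SemiconjBy j g g⁻¹ := by
    show j * g = g⁻¹ * j
    rw [hgi, hg, ← mul_assoc, hj2, one_mul, mul_assoc, hj2, mul_one]
  have hkg : SemiconjBy k' g g⁻¹ := by
    show k' * g = g⁻¹ * k'
    rw [hgi, hg]
    exact (mul_assoc k' j k').symm
  have hjg' : SemiconjBy j g⁻¹ g := by simpa using hjg.inv_right
  have hgo := pow_orderOf_eq_one g
  rcases Nat.even_or_odd' (orderOf g) with ⟨t, ht | ht⟩
  rotate_left
  · exfalso
    apply hne (h⁻¹ * g ^ t) (L.mul_mem (L.inv_mem hh)
      (L.pow_mem (L.mul_mem hjL (L.mul_mem (L.mul_mem hh hkL) (L.inv_mem hh))) t))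
    have e1 : g ^ t * j = j * (g⁻¹) ^ t := (hjg'.pow_right t).eq.symm
    have e2 : g ^ t * j * (g ^ t)⁻¹ = k' := by
      have e3 : j * (g ^ t)⁻¹ = g ^ t * j := by rw [e1, inv_pow]
      rw [mul_assoc, e3, ← mul_assoc, ← pow_add]
      have : g ^ (t + t) = g⁻¹ := by
        rw [← two_mul, eq_inv_iff_mul_eq_one, ← pow_succ, ← ht, hgo]
      rw [this, hgi, mul_assoc, hj2, mul_one]
    rw [show h⁻¹ * g ^ t * j * (h⁻¹ * g ^ t)⁻¹ = h⁻¹ * (g ^ t * j * (g ^ t)⁻¹) * h by group, e2,
      hk']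
    group
  set w := g ^ t with hw
  have hpos : 0 < orderOf g := orderOf_pos g
  have hw1 : w ≠ 1 := fun e => by
    have := orderOf_le_of_pow_eq_one (n := t) (by omega) e
    omega
  have hw2 : w * w = 1 := by rw [hw, ← pow_add, ← two_mul, ← ht, hgo]
  have hwi : (g⁻¹) ^ t = w := by rw [inv_pow]; exact inv_eq_of_mul_eq_one_right hw2
  have hwj : w * j = j * w := by
    have := (hjg.pow_right t).eq
    rw [hwi] at this
    exact this.symm
  have hwk : w * k' = k' * w := by
    have := (hkg.pow_right t).eq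
    rw [hwi] at this
    exact this.symm
  have hwL : w ∈ L := L.pow_mem (L.mul_mem hjL (L.mul_mem (L.mul_mem hh hkL) (L.inv_mem hh))) t
  set w' := h⁻¹ * w * h with hw'
  have hw'L : w' ∈ L := L.mul_mem (L.mul_mem (L.inv_mem hh) hwL) hh
  have hw'k : w' * k = k * w' := by
    rw [hw', show h⁻¹ * w * h * k = h⁻¹ * (w * (h * k * h⁻¹)) * h by group, ← hk', hwk, hk']
    group
  have hw'2 : w' * w' = 1 := by
    rw [hw', show h⁻¹ * w * h * (h⁻¹ * w * h) = h⁻¹ * (w * w) * h by group, hw2, mul_one,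
      inv_mul_cancel]
  have hw'1 : w' ≠ 1 := fun e => hw1 (by
    rw [show w = h * w' * h⁻¹ by rw [hw']; group, e, mul_one, mul_inv_cancel])
  have hwR := hcomm j w dj hj (by omega) (Or.inl rfl) hjL hwL hwj
  have hw'R := hcomm k w' dk hk (by omega) (Or.inr rfl) hkL hw'L hw'k
  let Ti := Matrix.toLin' ((h⁻¹ : GL ι F) : Matrix ι ι F)
  let K : Submodule F (ι → F) := fixedSp j ⊓ (fixedSp k).comap Ti
  have hfix : ∀ v ∈ K, (w : Matrix ι ι F) *ᵥ v = v := by
    intro v hv
    obtain ⟨h1, h2⟩ := Submodule.mem_inf.mp hv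
    rw [mem_fixedSp] at h1
    rw [Submodule.mem_comap, mem_fixedSp] at h2
    have hgv : (g : Matrix ι ι F) *ᵥ v = v := by
      rw [hg, hk', Units.val_mul, Units.val_mul, Units.val_mul]
      simp only [← Matrix.mulVec_mulVec]
      simp only [Ti, Matrix.toLin'_apply] at h2
      rw [h2, Matrix.mulVec_mulVec v (h : Matrix ι ι F), ← Units.val_mul, mul_inv_cancel,
        Units.val_one, Matrix.one_mulVec, h1]
    rw [hw]
    clear_value g
    clear hw hw1 hw2 hwi hwj hwk hwL hw' hw'L hw'k hw'2 hw'1 hwR hw'R ht w'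
    induction t with
    | zero => rw [pow_zero, Units.val_one, Matrix.one_mulVec]
    | succ t ih => rw [pow_succ, Units.val_mul, ← Matrix.mulVec_mulVec, hgv, ih]
  let T : (ι → F) ≃ₗ[F] (ι → F) := LinearEquiv.ofLinear (Matrix.toLin' (h : Matrix ι ι F)) Ti
    (by rw [← Matrix.toLin'_mul, ← Units.val_mul, mul_inv_cancel, Units.val_one,
      Matrix.toLin'_one])
    (by rw [← Matrix.toLin'_mul, ← Units.val_mul, inv_mul_cancel, Units.val_one,
      Matrix.toLin'_one])
  have hKd : Fintype.card ι ≤ Module.finrank F K + (dj + dk) := by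
    have h1 := Submodule.finrank_sup_add_finrank_inf_eq (fixedSp j) ((fixedSp k).comap Ti)
    have h2 := Submodule.finrank_le (fixedSp j ⊔ (fixedSp k).comap Ti)
    have h3 : Module.finrank F ((fixedSp k).comap Ti) = Module.finrank F (fixedSp k) := by
      rw [show (fixedSp k).comap Ti = (fixedSp k).map T.toLinearMap from
        (Submodule.map_equiv_eq_comap_symm T _).symm, LinearEquiv.finrank_map_eq]
    have h4 := hj.2.2.2
    have h5 := hk.2.2.2
    rw [Module.finrank_fintype_fun_eq_card] at h2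
    change _ ≤ Module.finrank F (fixedSp j ⊓ (fixedSp k).comap Ti : Submodule F (ι → F)) + _
    omega
  have hwK : Fintype.card ι ≤ Module.finrank F (fixedSp w) + (dj + dk) := by
    have := Submodule.finrank_mono (show K ≤ fixedSp w from fun v hv => (mem_fixedSp w v).mpr (hfix v hv))
    omega
  have hw'K : Fintype.card ι ≤ Module.finrank F (fixedSp w') + (dj + dk) := by
    have hle : K.map T.symm.toLinearMap ≤ fixedSp w' := by
      rintro _ ⟨v, hv, rfl⟩
      show Ti v ∈ fixedSp w'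
      rw [mem_fixedSp, hw', Units.val_mul, Units.val_mul]
      simp only [Ti, Matrix.toLin'_apply, ← Matrix.mulVec_mulVec]
      rw [Matrix.mulVec_mulVec v (h : Matrix ι ι F), ← Units.val_mul, mul_inv_cancel,
        Units.val_one, Matrix.one_mulVec, hfix v hv]
    have := Submodule.finrank_mono hle
    rw [LinearEquiv.finrank_map_eq] at this
    omega
  have hwE := entries_of_ratG_sq hsq hw2 hwR
  have hw'E := entries_of_ratG_sq hsq hw'2 hw'R
  exact hfail h hh w' hw'L w hwL ⟨hw'E, hw'2, hw'1, hw'K⟩ ⟨hwE, hw2, hw1, hwK⟩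
    (by rw [hw']; group)

end Invol

/-- An element whose square lies in a subfield of odd degree lies in it. -/
theorem mem_of_sq_mem {F : Type*} [Field F] [Finite F] {F₀ : Subfield F} {r : ℕ} (hr : r.Prime)
    (hodd : Odd r) (hcard : Nat.card F = Nat.card F₀ ^ r) {c : F} (hc : c * c ∈ F₀) : c ∈ F₀ := by
  have hfr : Module.finrank F₀ F = r := by
    have h1 := Module.natCard_eq_pow_finrank (K := F₀) (V := F)
    rw [hcard] at h1
    exact (Nat.pow_right_injective Finite.one_lt_card h1).symm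
  have hint : IsIntegral F₀ c := IsIntegral.of_finite F₀ c
  have hdvd := minpoly.degree_dvd (K := F₀) (L := F) hint
  rw [hfr] at hdvd
  have hle : (minpoly F₀ c).natDegree ≤ 2 := by
    have hp : (Polynomial.X ^ 2 - Polynomial.C (⟨c * c, hc⟩ : F₀)).natDegree = 2 := by
      rw [Polynomial.natDegree_X_pow_sub_C]
    rw [← hp]
    refine Polynomial.natDegree_le_of_dvd (minpoly.dvd F₀ c ?_) ?_
    · rw [map_sub, map_pow, Polynomial.aeval_X, Polynomial.aeval_C, pow_two]
      exact sub_self _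
    · exact Polynomial.X_pow_sub_C_ne_zero (by norm_num) _
  rcases (Nat.dvd_prime hr).mp hdvd with h | h
  · obtain ⟨t, ht⟩ := minpoly.natDegree_eq_one_iff.mp h
    exact ht ▸ t.2
  · exfalso
    obtain ⟨k, hk⟩ := hodd
    have := hr.two_le
    omega

variable {ι : Type} [Fintype ι] [DecidableEq ι] {F : Type*} [Field F] {F₀ : Subfield F}
  {Q : (ι → F) → F} {B : LinearMap.BilinForm F (ι → F)}
  [Finite F] {Q₀ : (ι → F₀) → F₀} {B₀ : LinearMap.BilinForm F₀ (ι → F₀)}
  {H : Subgroup (GL ι F)} (X : Ctx8 Q B Q₀ B₀ H)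

include X

/-- The rational form has no totally singular half. -/
theorem Ctx8.minus₀ (hminus : ¬ Cfsg.Geo.IsPlusTypeOn Q ⊤) :
    ¬ Cfsg.Geo.IsPlusTypeOn Q₀ ⊤ := by
  rintro ⟨M, -, hM, hMd⟩
  refine hminus ?_
  let b := Module.finBasis F₀ M
  have hli : LinearIndependent F₀ fun i => (b i : ι → F₀) :=
    b.linearIndependent.map' M.subtype M.ker_subtype
  have hli' : LinearIndependent F fun i => rv F₀ (b i : ι → F₀) := by
    rw [Fintype.linearIndependent_iff]
    intro c hc i
    obtain ⟨ψ, hψ1, hψ⟩ := exists_dot_sep (hli.notMem_span_image (s := {j | j ≠ i})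
      (x := i) (by simp))
    have h := congrArg (rv F₀ ψ ⬝ᵥ ·) hc
    simp only [dotProduct_sum, dotProduct_smul, rv_dot, dotProduct_zero, smul_eq_mul] at h
    rw [Finset.sum_eq_single i (fun j _ hj => by
      rw [hψ _ (Submodule.subset_span ⟨j, hj, rfl⟩)]; simp) (by simp), hψ1] at h
    simpa using h
  refine ⟨Submodule.span F (Set.range fun i => rv F₀ (b i : ι → F₀)), le_top, ?_, ?_⟩
  · intro v hv
    have key : Q v = 0 ∧ ∀ j, B v (rv F₀ (b j : ι → F₀)) = 0 := by
      have hB : ∀ i j, B (rv F₀ (b i : ι → F₀)) (rv F₀ (b j : ι → F₀)) = 0 := fun i j => by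
        refine X.b_rv ?_
        have h := hM _ (M.add_mem (b i).2 (b j).2)
        rw [X.space₀.add, hM _ (b i).2, hM _ (b j).2] at h
        simpa using h
      induction hv using Submodule.span_induction with
      | mem x hx =>
        obtain ⟨i, rfl⟩ := hx
        exact ⟨X.q_rv (hM _ (b i).2), hB i⟩
      | zero => exact ⟨X.space.zero, fun j => by simp⟩
      | add x y hx _ hQx hQy =>
        refine ⟨?_, fun j => by rw [map_add, LinearMap.add_apply, hQx.2 j, hQy.2 j, add_zero]⟩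
        have hyx : B y x = 0 := by
          rename_i hy
          refine (Submodule.span_le (p := LinearMap.ker (B y))).mpr ?_ hx
          rintro _ ⟨i, rfl⟩
          exact LinearMap.mem_ker.mpr (hQy.2 i)
        rw [X.space.add, hQx.1, hQy.1, X.space.symm, hyx]
        simp
      | smul a x _ hQx =>
        exact ⟨by rw [X.space.smul, hQx.1, mul_zero], fun j => by
          rw [map_smul, LinearMap.smul_apply, hQx.2 j, smul_zero]⟩
    exact key.1
  · rw [finrank_span_eq_card hli', Fintype.card_fin]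
    rw [finrank_top, finrank_fintype_fun_eq_card] at hMd ⊢
    exact hMd

/-- Three perpendicular hyperbolic pairs of rational vectors. -/
theorem Ctx8.exists_three : ∃ e f : Fin 3 → (ι → F₀), (∀ i, Q₀ (e i) = 0 ∧ Q₀ (f i) = 0) ∧
    ∀ i j, B₀ (e i) (e j) = 0 ∧ B₀ (f i) (f j) = 0 ∧ B₀ (e i) (f j) = if i = j then 1 else 0 := by
  have S := X.space₀
  have hn : 8 ≤ finrank F₀ (⊤ : Submodule F₀ (ι → F₀)) := by
    rw [finrank_top, finrank_fintype_fun_eq_card]; exact X.card
  obtain ⟨e1, f1, h1⟩ := exists_hyp' S S.ndeg_top (by omega)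
  have d1 := h1.le_finrank S
  obtain ⟨e2, f2, h2⟩ := exists_hyp' S (h1.ndeg S S.ndeg_top) (by omega)
  have d2 := h2.le_finrank S
  obtain ⟨e3, f3, h3⟩ := exists_hyp' S (h2.ndeg S (h1.ndeg S S.ndeg_top)) (by omega)
  obtain ⟨-, a1, a2⟩ := mem_perp2.mp h2.memE
  obtain ⟨-, a3, a4⟩ := mem_perp2.mp h2.memF
  obtain ⟨m3e, b1, b2⟩ := mem_perp2.mp h3.memE
  obtain ⟨m3f, b3, b4⟩ := mem_perp2.mp h3.memF
  obtain ⟨-, b5, b6⟩ := mem_perp2.mp m3e
  obtain ⟨-, b7, b8⟩ := mem_perp2.mp m3f
  refine ⟨![e1, e2, e3], ![f1, f2, f3], fun i => ?_, fun i j => ?_⟩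
  · fin_cases i <;> simp [h1.singE, h1.singF, h2.singE, h2.singF, h3.singE, h3.singF]
  · fin_cases i <;> fin_cases j <;>
      simp [S.self_zero, h1.singE, h1.singF, h2.singE, h2.singF, h3.singE, h3.singF,
        h1.pair, h2.pair, h3.pair, a1, a2, a3, a4, b1, b2, b3, b4, b5, b6, b7,
        b8, S.symm e2 e1, S.symm e3 e1, S.symm e3 e2, S.symm f2 f1, S.symm f3 f1,
        S.symm f3 f2, S.symm e2 f1, S.symm e3 f1, S.symm e3 f2]

/-- Either every element of `H` is rational up to a scalar, or `H` is everything. -/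
theorem Ctx8.ratG_or_top (hminus : ¬ Cfsg.Geo.IsPlusTypeOn Q ⊤) (h8 : Fintype.card ι = 8)
    {r : ℕ} (hr : r.Prime) (hodd : Odd r) (hcard : Nat.card F = Nat.card F₀ ^ r) :
    (∀ h ∈ H, RatG F₀ h) ∨ Cfsg.Geo.omegaGL Q ≤ H := by
  classical
  by_cases hA : CaseA Q B Q₀ B₀ H
  · exact Or.inr (X.omega_le_of_caseA hr hcard hA)
  left
  have C := X.space
  have hn := X.card
  have hm₀ := X.minus₀ hminus
  obtain ⟨e, f, hs, hp⟩ := X.exists_three
  set a : Fin 3 → (ι → F) := fun i => rv F₀ (e i + f i) with ha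
  have hQa : ∀ i, Q (a i) = 1 := fun i => by
    rw [ha]
    show Q (rv F₀ (e i + f i)) = 1
    rw [X.compat, X.space₀.add, (hs i).1, (hs i).2, (hp i i).2.2, if_pos rfl]
    simp
  have hBa : ∀ i j, i ≠ j → B (a i) (a j) = 0 := fun i j hij => by
    show B (rv F₀ (e i + f i)) (rv F₀ (e j + f j)) = 0
    rw [X.B_rv]
    simp [(hp i j).1, (hp i j).2.1, (hp i j).2.2, X.space₀.symm (f i) (e j), (hp j i).2.2, hij,
      Ne.symm hij]
  have hae : ∀ i j, B (a i) (rv F₀ (e j)) = if j = i then 1 else 0 := fun i j => by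
    show B (rv F₀ (e i + f i)) (rv F₀ (e j)) = _
    rw [X.B_rv]
    split_ifs with h
    · subst h; simp [(hp j j).1, X.space₀.symm (f j) (e j), (hp j j).2.2]
    · simp [(hp i j).1, X.space₀.symm (f i) (e j), (hp j i).2.2, h]
  have hQ0 : ∀ i, Q (a i) ≠ 0 := fun i => by rw [hQa]; exact one_ne_zero
  -- a product of two of the reflections
  have pair : ∀ i j, i ≠ j → rGL Q (a i) * rGL Q (a j) ∈ H ∧
      (∀ z : ι → F₀, Ratv F₀ ((rGL Q (a i) * rGL Q (a j)).val *ᵥ rv F₀ z)) := fun i j hij => by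
    have hr' : ∀ z : ι → F₀, Ratv F₀ ((rGL Q (a i) * rGL Q (a j)).val *ᵥ rv F₀ z) := fun z => by
      rw [rGL_pair_act C (hQa i) (hQa j) (hBa i j hij)]
      refine ((ratv_rv z).sub ((ratv_rv (e i + f i)).smul ?_)).sub
        ((ratv_rv (e j + f j)).smul ?_) <;>
      · show B (rv F₀ _) (rv F₀ z) ∈ F₀
        rw [X.B_rv]
        exact SetLike.coe_mem _
    refine ⟨X.rat _ ?_ ⟨1, one_ne_zero, fun p q => by rw [one_mul]; exact entries_of_ratv hr' p q⟩,
      hr'⟩
    rw [omegaGL_comm]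
    exact rGL_mul_rGL_mem C X.five (hQ0 i) (by rw [hQa, hQa])
  set j := rGL Q (a 0) * rGL Q (a 1) with hj
  have hjact : ∀ x, j.val *ᵥ x = x - B (a 0) x • a 0 - B (a 1) x • a 1 :=
    rGL_pair_act C (hQa 0) (hQa 1) (hBa 0 1 (by decide))
  have hjj : j * j = 1 := gl_ext fun x => by
    rw [mul_act, hjact x, hjact, Units.val_one, Matrix.one_mulVec]
    simp only [map_sub, map_smul, C.self, hQa, hBa 0 1 (by decide), hBa 1 0 (by decide),
      smul_eq_mul, mul_one, mul_zero]
    module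
  have he1 : j.val *ᵥ rv F₀ (e 0) = -rv F₀ (f 0) := by
    rw [hjact, hae, hae, if_pos rfl, if_neg (by decide), ha]
    simp [rv_add]
  have hje : B (j.val *ᵥ rv F₀ (e 0)) (rv F₀ (e 0)) = -1 := by
    rw [he1, map_neg, LinearMap.neg_apply, X.B_rv, X.space₀.symm, (hp 0 0).2.2]
    simp
  have hjinv : RatInvol F₀ j 2 := by
    refine ⟨entries_of_ratv (pair 0 1 (by decide)).2, hjj, fun h => ?_, ?_⟩
    · rw [h, Units.val_one, Matrix.one_mulVec, X.B_rv, X.space₀.self_zero (hs 0).1] at hje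
      simp at hje
    · refine (finrank_ker_prod_ge (B := B) (a 0) (a 1)).trans (Nat.add_le_add_right
        (Submodule.finrank_mono fun x hx => ?_) 2)
      obtain ⟨-, h0, h1⟩ := mem_perp2.mp hx
      rw [mem_fixedSp, hjact, h0, h1]
      simp
  intro h hh
  by_cases h2 : (2 : F) = 0
  · -- characteristic two: a root element
    have h01 : B₀ (e 0) (e 1) = 0 := (hp 0 1).1
    set k := sGL Q B (rv F₀ (e 0)) (rv F₀ (e 1)) with hk
    have hkact : ∀ x, k.val *ᵥ x =
        x + B (rv F₀ (e 0)) x • rv F₀ (e 1) - B (rv F₀ (e 1)) x • rv F₀ (e 0) := fun x => by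
      rw [hk, sGL_act C (X.q_rv (hs 0).1) (X.b_rv h01), X.q_rv (hs 1).1]
      module
    have hkk : k * k = 1 := gl_ext fun x => by
      rw [mul_act, hkact x, hkact, Units.val_one, Matrix.one_mulVec]
      simp only [map_add, map_sub, map_smul, smul_eq_mul, X.b_rv h01,
        C.symm (rv F₀ (e 1)) (rv F₀ (e 0)), C.self_zero (X.q_rv (hs 0).1),
        C.self_zero (X.q_rv (hs 1).1), mul_zero, add_zero, sub_zero]
      linear_combination (norm := module)
        congrArg (fun c => c • (B (rv F₀ (e 0)) x • rv F₀ (e 1) -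
          B (rv F₀ (e 1)) x • rv F₀ (e 0))) h2
    have hkv : ∀ x, B (k.val *ᵥ x) x = 0 := fun x => by
      rw [hkact]
      simp only [map_add, map_sub, map_smul, LinearMap.add_apply, LinearMap.sub_apply,
        LinearMap.smul_apply, smul_eq_mul, C.self x]
      linear_combination Q x * h2
    have hkinv : RatInvol F₀ k 2 := by
      refine ⟨entries_of_ratv fun z => ?_, hkk, fun h1 => ?_, ?_⟩
      · rw [hkact]
        refine ((ratv_rv z).add ((ratv_rv (e 1)).smul ?_)).sub ((ratv_rv (e 0)).smul ?_) <;>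
        · rw [X.B_rv]; exact SetLike.coe_mem _
      · have h3 := hkact (rv F₀ (f 0))
        rw [h1, Units.val_one, Matrix.one_mulVec, X.B_rv, X.B_rv, (hp 0 0).2.2, (hp 1 0).2.2,
          if_pos rfl, if_neg (by decide)] at h3
        have h4 : rv F₀ (e 1) = 0 := by simpa using h3
        have h5 := (hp 1 1).2.2
        rw [X.rv_eq_zero h4] at h5
        simp at h5
      · refine (finrank_ker_prod_ge (B := B) (rv F₀ (e 0)) (rv F₀ (e 1))).trans
          (Nat.add_le_add_right (Submodule.finrank_mono fun x hx => ?_) 2)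
        obtain ⟨-, h0, h1⟩ := mem_perp2.mp hx
        rw [mem_fixedSp, hkact, h0, h1]
        simp
    refine ratG_of_involutions_sq (dj := 2) (dk := 2) (fun _ => mem_of_sq_mem hr hodd hcard)
      (pair 0 1 (by decide)).1 (X.sGL_rv (hs 0).1 h01) hjinv hkinv (fun c hc heq => ?_)
      (fun g hg x hx y hy hx' hy' hxy => X.ratG_of_intertwine hm₀ h8 hA hg (X.le_iso hx)
        (X.le_iso hy) (fun _ => hy) hx' hy' hxy (by norm_num) (fun _ => le_rfl)) hh
    have h3 := hkv (c.val *ᵥ rv F₀ (e 0))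
    change B ((sGL Q B (rv F₀ (e 0)) (rv F₀ (e 1))).val *ᵥ (c.val *ᵥ rv F₀ (e 0))) _ = 0 at h3
    rw [heq, mul_act, inv_act, mul_act, C.B_act (X.le_iso hc), hje] at h3
    simp at h3
  · -- four reflections
    have h20 : (2 : F₀) ≠ 0 := fun h => h2 (congrArg Subtype.val h)
    obtain ⟨c₃, hc₃⟩ : ∃ c₃ : ι → F₀, Q₀ c₃ = 1 ∧ ∀ i, B₀ (e i + f i) c₃ = 0 := by
      set A := Submodule.span F₀ (Set.range fun i => e i + f i)
      have hdA : finrank F₀ A ≤ 3 := by
        have := finrank_range_le_card (R := F₀) fun i => e i + f i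
        simpa [Set.finrank] using this
      set E := perpIn B₀ ⊤ A with hE
      have hdE : 5 ≤ finrank F₀ E := by
        have := finrank_perpIn (B := B₀) ⊤ A
        rw [finrank_top, finrank_fintype_fun_eq_card, ← hE] at this
        omega
      obtain ⟨v, hv, hQv⟩ := ClassSp.exists_value_in X.space₀ h20 E (fun K hKE hK => by
        -- the radical is perpendicular to `E` and to `A`
        have hle : K ≤ perpIn B₀ ⊤ (A ⊔ E) := fun x hx => ⟨trivial, fun z hz => by
          obtain ⟨p, hp', q, hq, rfl⟩ := Submodule.mem_sup.mp hz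
          rw [map_add, LinearMap.add_apply, (hKE hx).2 p hp', X.space₀.symm q x, hK x hx q hq,
            add_zero]⟩
        have h1 := Submodule.finrank_mono hle
        have h3 := finrank_perp_add_le X.space₀ (A ⊔ E)
        have h4 := Submodule.finrank_mono (le_sup_right : E ≤ A ⊔ E)
        omega) one_ne_zero
      exact ⟨v, hQv, fun i => hv.2 _ (Submodule.subset_span ⟨i, rfl⟩)⟩
    set b : Fin 4 → (ι → F) := Fin.snoc a (rv F₀ c₃) with hb
    have hb3 : ∀ i : Fin 3, b i.castSucc = a i := fun i => by rw [hb, Fin.snoc_castSucc]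
    have hQb : ∀ i, Q (b i) = 1 := by
      intro i
      induction i using Fin.lastCases with
      | last => rw [hb, Fin.snoc_last, X.compat, hc₃.1]; rfl
      | cast i => rw [hb3, hQa]
    have hBb : ∀ i k, i ≠ k → B (b i) (b k) = 0 := by
      have h3 : ∀ i, B (a i) (rv F₀ c₃) = 0 := fun i => X.b_rv (hc₃.2 i)
      intro i k hik
      induction i using Fin.lastCases with
      | last =>
        induction k using Fin.lastCases with
        | last => exact absurd rfl hik
        | cast k => rw [hb3, hb, Fin.snoc_last, C.symm, h3]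
      | cast i =>
        induction k using Fin.lastCases with
        | last => rw [hb3, hb, Fin.snoc_last, h3]
        | cast k => rw [hb3, hb3, hBa i k fun h => hik (by rw [h])]
    have hbr : ∀ i, Ratv F₀ (b i) := by
      intro i
      induction i using Fin.lastCases with
      | last => rw [hb, Fin.snoc_last]; exact ratv_rv _
      | cast i => rw [hb3]; exact ratv_rv _
    have hb0 : b 0 = a 0 := hb3 0
    have hb1 : b 1 = a 1 := hb3 1
    have hjact' : ∀ x, j.val *ᵥ x = x - B (b 0) x • b 0 - B (b 1) x • b 1 := by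
      rw [hb0, hb1]; exact hjact
    have hB' : ∀ i z, B (b i) (rv F₀ z) ∈ F₀ := fun i z => by
      obtain ⟨u, hu⟩ := hbr i
      rw [hu, X.B_rv]
      exact SetLike.coe_mem _
    set k := j * (rGL Q (b 2) * rGL Q (b 3)) with hk
    have hkact : ∀ x, k.val *ᵥ x = x - B (b 0) x • b 0 - B (b 1) x • b 1 - B (b 2) x • b 2 -
        B (b 3) x • b 3 := fun x => by
      rw [hk, mul_act, rGL_pair_act C (hQb 2) (hQb 3) (hBb 2 3 (by decide)), hjact']
      simp only [map_sub, map_smul, smul_eq_mul, hBb 0 2 (by decide), hBb 0 3 (by decide),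
        hBb 1 2 (by decide), hBb 1 3 (by decide), mul_zero, sub_zero]
      abel
    have hkk : k * k = 1 := gl_ext fun x => by
      rw [mul_act, hkact x, hkact, Units.val_one, Matrix.one_mulVec]
      simp only [map_sub, map_smul, C.self, hQb, smul_eq_mul, hBb 0 1 (by decide),
        hBb 0 2 (by decide), hBb 0 3 (by decide), hBb 1 0 (by decide), hBb 1 2 (by decide),
        hBb 1 3 (by decide), hBb 2 0 (by decide), hBb 2 1 (by decide), hBb 2 3 (by decide),
        hBb 3 0 (by decide), hBb 3 1 (by decide), hBb 3 2 (by decide), mul_one, mul_zero]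
      module
    let Ψ : (ι → F) →ₗ[F] (Fin 4 → F) := LinearMap.pi fun i => B (b i)
    have hΨ : finrank F (LinearMap.ker Ψ) + 4 = Fintype.card ι := by
      have hsurj : Function.Surjective Ψ := fun c => ⟨∑ i, (c i / 2) • b i, funext fun i => by
        show B (b i) (∑ k, (c k / 2) • b k) = c i
        rw [map_sum, Finset.sum_eq_single i (fun k _ hk => by
          rw [map_smul, hBb i k (Ne.symm hk), smul_zero]) (by simp), map_smul, C.self, hQb,
          smul_eq_mul]
        field_simp⟩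
      have h1 := LinearMap.finrank_range_add_finrank_ker Ψ
      rw [LinearMap.range_eq_top.mpr hsurj, finrank_top, finrank_fintype_fun_eq_card,
        finrank_fintype_fun_eq_card, Fintype.card_fin] at h1
      omega
    have hk23 : rGL Q (b 2) * rGL Q (b 3) ∈ H := by
      refine X.rat _ ?_ ⟨1, one_ne_zero, fun p q => by
        rw [one_mul]
        refine entries_of_ratv (fun z => ?_) p q
        rw [rGL_pair_act C (hQb 2) (hQb 3) (hBb 2 3 (by decide))]
        exact ((ratv_rv z).sub ((hbr 2).smul (hB' 2 z))).sub ((hbr 3).smul (hB' 3 z))⟩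
      rw [omegaGL_comm]
      exact rGL_mul_rGL_mem C X.five (by rw [hQb]; exact one_ne_zero) (by rw [hQb, hQb])
    have hkinv : RatInvol F₀ k 4 := by
      refine ⟨entries_of_ratv fun z => ?_, hkk, fun h1 => ?_, ?_⟩
      · rw [hkact]
        exact ((((ratv_rv z).sub ((hbr 0).smul (hB' 0 z))).sub ((hbr 1).smul (hB' 1 z))).sub
          ((hbr 2).smul (hB' 2 z))).sub ((hbr 3).smul (hB' 3 z))
      · have h3 := congrArg (fun g : GL ι F => B (g.val *ᵥ b 0) (b 0)) h1
        simp only [Units.val_one, Matrix.one_mulVec] at h3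
        rw [hkact] at h3
        simp only [map_sub, map_smul, LinearMap.sub_apply, LinearMap.smul_apply, C.self, hQb,
          hBb 1 0 (by decide), hBb 2 0 (by decide), hBb 3 0 (by decide), smul_eq_mul, mul_one,
          mul_zero, zero_mul, sub_zero] at h3
        exact h2 ((mul_eq_zero.mp (by linear_combination -h3 : (2 : F) * 2 = 0)).elim id id)
      · refine le_trans hΨ.ge (Nat.add_le_add_right (Submodule.finrank_mono fun x hx => ?_) 4)
        have h0 : ∀ i, B (b i) x = 0 := fun i => congrFun (LinearMap.mem_ker.mp hx) i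
        rw [mem_fixedSp, hkact, h0, h0, h0, h0]
        simp
    refine ratG_of_involutions_sq (dj := 2) (dk := 4) (fun _ => mem_of_sq_mem hr hodd hcard)
      (pair 0 1 (by decide)).1 (mul_mem (pair 0 1 (by decide)).1 hk23) hjinv hkinv
      (fun c _ heq => ?_)
      (fun g hg x hx y hy hx' hy' hxy => X.ratG_of_intertwine hm₀ h8 hA hg (X.le_iso hx)
        (X.le_iso hy) (fun h => absurd h h2) hx' hy' hxy (by norm_num) (fun h => absurd h h2)) hh
    have hle : (fixedSp j).map (Matrix.mulVecLin c.val) ≤ LinearMap.ker Ψ := by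
      rintro _ ⟨v, hv, rfl⟩
      have hfix : k.val *ᵥ (c.val *ᵥ v) = c.val *ᵥ v := by
        show (j * (rGL Q (b 2) * rGL Q (b 3))).val *ᵥ _ = _
        rw [heq, mul_act, inv_act, mul_act, (mem_fixedSp j v).mp hv]
      refine LinearMap.mem_ker.mpr (funext fun i => ?_)
      show B (b i) (c.val *ᵥ v) = 0
      have h3 := congrArg (B (b i)) hfix
      rw [hkact] at h3
      fin_cases i <;>
      · simp [C.self, hQb, hBb] at h3 ⊢
        exact h3.resolve_right h2
    have h1 := Submodule.finrank_mono hle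
    rw [(Submodule.equivMapOfInjective _ (act_injective c) (fixedSp j)).finrank_eq.symm] at h1
    have h3 := hjinv.2.2.2
    omega

omit X

/-- The rational part of `Ω` is maximal. -/
theorem subfield_one_max8 (C : Space Q B) (hn : Fintype.card ι = 8)
    (hminus : ¬ Cfsg.Geo.IsPlusTypeOn Q ⊤)
    (hrat : ∀ u : ι → F, (∀ i, u i ∈ F₀) → Q u ∈ F₀) {r : ℕ} (hr : r.Prime)
    (hodd : Odd r) (hcard : Nat.card F = Nat.card F₀ ^ r) :
    Cfsg.Geo.IsMaximalIn (Cfsg.Geo.omegaGL Q)
      (Cfsg.Geo.subfieldSubgroup F₀ 1 ⊓ Cfsg.Geo.omegaGL Q) := by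
  classical
  let Q₀ : (ι → F₀) → F₀ := fun x => ⟨Q (rv F₀ x), hrat _ fun i => (x i).2⟩
  have hpol : ∀ x y, B (rv F₀ x) (rv F₀ y) = ((QuadraticMap.polar Q₀ x y : F₀) : F) := fun x y => by
    rw [← C.polar]
    simp only [QuadraticMap.polar, Q₀, AddSubgroupClass.coe_sub, rv_add]
  let B₀ : LinearMap.BilinForm F₀ (ι → F₀) := LinearMap.mk₂ F₀ (fun x y => QuadraticMap.polar Q₀ x y)
    (fun a b c => Subtype.ext (by push_cast; rw [← hpol, ← hpol, ← hpol, rv_add]; simp))
    (fun k a b => Subtype.ext (by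
      rw [← hpol, rv_smul, map_smul, LinearMap.smul_apply, hpol]; rfl))
    (fun a b c => Subtype.ext (by push_cast; rw [← hpol, ← hpol, ← hpol, rv_add]; simp))
    (fun k a b => Subtype.ext (by rw [← hpol, rv_smul, map_smul, hpol]; rfl))
  have C₀ : Space Q₀ B₀ := by
    refine ⟨fun c x => Subtype.ext ?_, fun _ _ => rfl, fun v hv => ?_⟩
    · push_cast
      show Q (rv F₀ (c • x)) = _
      rw [rv_smul, C.smul]
    · have h := C.nondeg (rv F₀ v) fun u => by
        have := eq_zero_of_rv (F₀ := F₀) (B.flip (rv F₀ v)) (fun x => by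
          show B (rv F₀ x) (rv F₀ v) = 0
          rw [hpol]
          show ((B₀ x v : F₀) : F) = 0
          rw [hv x]
          rfl) u
        exact this
      exact rv_injective F₀ (h.trans rv_zero'.symm)
  have mk : ∀ H : Subgroup (GL ι F), H ≤ Cfsg.Geo.omegaGL Q →
      Cfsg.Geo.subfieldSubgroup F₀ 1 ⊓ Cfsg.Geo.omegaGL Q ≤ H → Ctx8 Q B Q₀ B₀ H :=
    fun H h1 h2 => ⟨C, C₀, fun _ => rfl, hn.ge, h1, fun g hg hgR =>
      h2 ⟨(mem_subfieldSubgroup_one F₀ g).mpr hgR, hg⟩⟩
  refine ⟨lt_of_le_of_ne inf_le_right fun heq => ?_, fun M hLM hMK => ?_⟩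
  · have X := mk _ le_rfl inf_le_right
    obtain ⟨s, hs⟩ : ∃ s : F, s ∉ F₀ := by
      by_contra hc
      push Not at hc
      have : Nat.card F₀ = Nat.card F := Nat.card_congr (Equiv.subtypeUnivEquiv hc)
      rw [this] at hcard
      exact hr.ne_one (Nat.pow_right_injective (Finite.one_lt_card (α := F)) (a₁ := 1) (a₂ := r)
        (by simpa using hcard)).symm
    obtain ⟨e, f, hz, hp⟩ := X.exists_three
    have h1 : Q (rv F₀ (e 0)) = 0 := X.q_rv (hz 0).1
    have h01 : B (rv F₀ (e 0)) (s • rv F₀ (e 1)) = 0 := by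
      rw [map_smul, X.b_rv (hp 0 1).1, smul_zero]
    have hmem : sGL Q B (rv F₀ (e 0)) (s • rv F₀ (e 1)) ∈ Cfsg.Geo.subfieldSubgroup F₀ 1 ⊓
        Cfsg.Geo.omegaGL Q := by
      rw [heq, omegaGL_eq C (by omega)]
      exact sGL_mem_root trivial trivial h1 h01
    obtain ⟨c, hc, hrat'⟩ := (mem_subfieldSubgroup_one F₀ _).mp hmem.1
    have himg : ∀ z : ι → F₀, Ratv F₀
        (c • (sGL Q B (rv F₀ (e 0)) (s • rv F₀ (e 1))).val *ᵥ rv F₀ z) := fun z => by
      refine ⟨Matrix.of (fun i j => (⟨_, hrat' i j⟩ : F₀)) *ᵥ z, funext fun i => ?_⟩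
      simp [rv, Matrix.mulVec, dotProduct, Finset.mul_sum, mul_assoc]
    have hne : ∀ i, e i ≠ 0 ∧ f i ≠ 0 := fun i =>
      ⟨fun h => by simpa [h] using (hp i i).2.2, fun h => by simpa [h] using (hp i i).2.2⟩
    have hcm : c ∈ F₀ := by
      have h := himg (f 2)
      rw [sGL_act C h1 h01, C.smul, X.q_rv (hz 1).1, map_smul, LinearMap.smul_apply, X.B_rv,
        X.B_rv, (hp 0 2).2.2, (hp 1 2).2.2, if_neg (by decide), if_neg (by decide)] at h
      simp only [ZeroMemClass.coe_zero, smul_eq_mul, mul_zero, zero_smul, add_zero, sub_zero] at h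
      refine coeff_mem (x := f 2) (y := 0) (b := 0) ?_ (by simpa [rv_zero'] using h)
      simpa using (hne 2).2
    have h := himg (f 0)
    rw [sGL_act C h1 h01, C.smul, X.q_rv (hz 1).1, map_smul, LinearMap.smul_apply, X.B_rv, X.B_rv,
      (hp 0 0).2.2, (hp 1 0).2.2, if_pos rfl, if_neg (by decide)] at h
    simp only [ZeroMemClass.coe_zero, OneMemClass.coe_one, smul_eq_mul, mul_zero, zero_mul,
      zero_smul, one_smul, add_zero, sub_zero, smul_add, smul_smul] at h
    have hind : e 1 ∉ Submodule.span F₀ {f 0} := fun hm => by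
      obtain ⟨t, ht⟩ := Submodule.mem_span_singleton.mp hm
      have h3 := congrArg (B₀ (e 0)) ht
      rw [map_smul, (hp 0 0).2.2, (hp 0 1).1, if_pos rfl, smul_eq_mul, mul_one] at h3
      exact (hne 1).1 (by rw [← ht, h3, zero_smul])
    rw [add_comm] at h
    have h4 := F₀.mul_mem (F₀.inv_mem hcm) (coeff_mem hind h)
    rw [← mul_assoc, inv_mul_cancel₀ hc, one_mul] at h4
    rw [one_mul] at h4
    exact hs h4
  · rcases (mk M hMK hLM).ratG_or_top hminus hn hr hodd hcard with h | h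
    · exact Or.inl (le_antisymm
        (fun g hg => ⟨(mem_subfieldSubgroup_one F₀ g).mpr (h g hg), hMK hg⟩) hLM)
    · exact Or.inr (le_antisymm hMK h)

/-- The subfield groups of `Ω` are maximal, in dimension eight and minus type. -/
theorem subfield_max_eight (hQ : Cfsg.Geo.IsNondegenerateQuadraticForm Q) (hn : Fintype.card ι = 8)
    (hminus : ¬ Cfsg.Geo.IsPlusTypeOn Q ⊤)
    {r : ℕ} (hr : r.Prime) (hodd : Odd r) (hcard : Nat.card F = Nat.card F₀ ^ r) (P : GL ι F) {ζ : F}
    (hζ : ζ ≠ 0) (hP : Cfsg.Geo.IsQuadFormRationalStructure (fun v => ζ * Q v) F₀ P) :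
    Cfsg.Geo.IsMaximalIn (Cfsg.Geo.omegaGL Q)
      (Cfsg.Geo.subfieldSubgroup F₀ P ⊓ Cfsg.Geo.omegaGL Q) := by
  obtain ⟨B, C⟩ := exists_space hQ
  let T := Matrix.mulVecLin P.val
  have C' : Space (fun v => ζ * Q (P.val *ᵥ v)) (ζ • B.compl₁₂ T T) := by
    refine ⟨fun c v => ?_, fun u v => ?_, fun v hv => ?_⟩
    · show ζ * Q _ = _
      rw [Matrix.mulVec_smul, C.smul]; ring
    · simp only [QuadraticMap.polar, Matrix.mulVec_add, C.add]
      simp [T]
      ring
    · refine act_injective P ?_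
      show P.val *ᵥ v = P.val *ᵥ 0
      rw [Matrix.mulVec_zero]
      refine C.nondeg _ fun u => ?_
      have := hv ((P⁻¹ : GL ι F).val *ᵥ u)
      simpa [T, hζ, act_inv] using this
  have hminus' : ¬ Cfsg.Geo.IsPlusTypeOn (fun v => ζ * Q (P.val *ᵥ v)) ⊤ := by
    rintro ⟨M, -, hM, hMd⟩
    refine hminus ⟨M.map T, le_top, ?_, ?_⟩
    · rintro _ ⟨v, hv, rfl⟩
      exact (mul_eq_zero.mp (hM v hv)).resolve_left hζ
    · rw [← (Submodule.equivMapOfInjective T (act_injective P) M).finrank_eq]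
      exact hMd
  have h1 := subfield_one_max8 (F₀ := F₀) C' hn hminus' hP hr hodd hcard
  set φ := MulAut.conj P with hφ
  have hinj : Function.Injective φ.toMonoidHom := φ.injective
  have hmap : (Cfsg.Geo.subfieldSubgroup F₀ 1 ⊓
      Cfsg.Geo.omegaGL fun v => ζ * Q (P.val *ᵥ v)).map φ.toMonoidHom =
      Cfsg.Geo.subfieldSubgroup F₀ P ⊓ Cfsg.Geo.omegaGL Q := by
    rw [Subgroup.map_inf _ _ _ hinj, omega_transfer P hζ]
    congr 1
    rw [Cfsg.Geo.subfieldSubgroup, Cfsg.Geo.subfieldSubgroup, Subgroup.map_map]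
    congr 1
    ext g
    simp [hφ]
  refine ⟨?_, fun M hLM hMK => ?_⟩
  · rw [← hmap, ← omega_transfer (Q := Q) P hζ]
    exact (Subgroup.map_lt_map_iff_of_injective hinj).mpr h1.1
  · have hM : (M.comap φ.toMonoidHom).map φ.toMonoidHom = M :=
      Subgroup.map_comap_eq_self_of_surjective φ.surjective M
    rcases h1.2 (M.comap φ.toMonoidHom)
        (Subgroup.map_le_iff_le_comap.mp (hmap ▸ hLM))
        ((Subgroup.map_le_map_iff_of_injective hinj).mp
          (by rw [hM, omega_transfer P hζ]; exact hMK)) with h | h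
    · left; rw [← hM, h, hmap]
    · right; rw [← hM, h, omega_transfer P hζ]


end Cfsg.Lib.Linear.OrthSub8
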