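import Cfsg.Agent.Lib.Linear.OrthSplitFlex
import Cfsg.Agent.Lib.Linear.OrthTenHelp
import Cfsg.Agent.Lib.Linear.OrthSplitMax

/-!
# Stabilisers of non-degenerate subspaces of an eight-dimensional space of minus type
-/

set_option autoImplicit false

namespace Cfsg.Lib.Linear.OrthSub8

open Module Cfsg.Lib.Linear.Orth Cfsg.Lib.Linear.OrthTen
open scoped Matrix

variable {ι : Type} [Fintype ι] [DecidableEq ι] {F : Type*} [Field F] [Finite F]
  {Q : (ι → F) → F} {B : LinearMap.BilinForm F (ι → F)}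

/-- In a plus four-space the perpendicular of a hyperbolic pair has a singular vector. -/
theorem sing_perp2_plus (C : Space Q B) {U : Submodule F (ι → F)} (h4 : finrank F U = 4)
    (hp : Cfsg.Geo.IsPlusTypeOn Q U) {e f : ι → F} (h : Hyp Q B U e f) :
    ∃ b ∈ perp2 B U e f, b ≠ 0 ∧ Q b = 0 := by
  by_contra hne
  push Not at hne
  have hz : ∀ b ∈ perp2 B U e f, Q b = 0 → b = 0 := fun b hb hQb => by
    by_contra hb0
    exact hne b hb hb0 hQb
  obtain ⟨M, hMU, hM, hMd⟩ := hp
  have hMB : ∀ x ∈ M, ∀ y ∈ M, B x y = 0 := fun x hx y hy => by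
    have := hM _ (M.add_mem hx hy)
    rw [C.add, hM x hx, hM y hy] at this
    simpa using this
  -- vectors of `M` perpendicular to `e` are multiples of `e`
  have hline : ∀ m ∈ M, B e m = 0 → m = B f m • e := fun m hm hem => by
    have hp := h.proj C (hMU hm)
    rw [hem, zero_smul, sub_zero] at hp
    refine sub_eq_zero.mp (hz _ hp ?_)
    rw [sub_eq_add_neg, ← neg_smul, C.add, C.smul, hM m hm, h.singE, map_smul, C.symm m e, hem]
    simp
  obtain ⟨m, hm, hem, hm0⟩ : ∃ m ∈ M, B e m = 0 ∧ m ≠ 0 := by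
    obtain ⟨m, hm, hem, hm0⟩ := Sing.exists_inf_ker_notMem M (B e) ⊥ (by
      rw [finrank_bot]; omega)
    exact ⟨m, hm, hem, fun e => hm0 (e ▸ Submodule.zero_mem _)⟩
  have heM : e ∈ M := by
    have h1 := hline m hm hem
    have hc : B f m ≠ 0 := fun h0 => hm0 (by rw [h1, h0, zero_smul])
    have : (B f m)⁻¹ • m = e := by
      conv_lhs => arg 2; rw [h1]
      rw [smul_smul, inv_mul_cancel₀ hc, one_smul]
    exact this ▸ M.smul_mem _ hm
  have hle : M ≤ Submodule.span F {e} := fun x hx =>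
    Submodule.mem_span_singleton.mpr ⟨_, (hline x hx (hMB e heM x hx)).symm⟩
  have he0 : e ≠ 0 := fun e0 => by simpa [e0] using h.pair
  have := Submodule.finrank_mono hle
  rw [finrank_span_singleton he0] at this
  omega

/-- The stabiliser of a non-degenerate subspace in minus type dimension eight. -/
theorem nondeg_max_eight (C : Space Q B) (hn : Fintype.card ι = 8)
    (hminus : ¬ Cfsg.Geo.IsPlusTypeOn Q ⊤) {W : Submodule F (ι → F)} (hW : NDeg B W)
    (h0 : finrank F W ≠ 0) (h8 : finrank F W < 8) (h6 : finrank F W ≠ 6)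
    (hex : finrank F W = 2 → (∀ x ∈ W, Q x = 0 → x = 0) ∨ 4 ≤ Nat.card F) :
    Cfsg.Geo.IsMaximalIn (Cfsg.Geo.omegaGL Q)
      (Cfsg.Geo.subspaceStabilizer W ⊓ Cfsg.Geo.omegaGL Q) := by
  have S := split_of_ndeg C hW
  have hadd := S.finrank_add C
  set U := perpIn B ⊤ W with hU
  have hb : ∀ {X : Submodule F (ι → F)}, finrank F X ≠ 0 → X ≠ ⊥ := fun h e =>
    h (by rw [e, finrank_bot])
  -- a larger part of dimension five
  have five : ∀ {U W : Submodule F (ι → F)}, Split Q B U W → finrank F U = 5 → finrank F W = 3 →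
      Cfsg.Geo.IsMaximalIn (Cfsg.Geo.omegaGL Q)
        (Cfsg.Geo.subspaceStabilizer W ⊓ Cfsg.Geo.omegaGL Q) := fun {U W} S hU hW => by
    refine split_max_flex C S (by omega) (fun e f h => ?_) (Or.inl (by omega)) (hb (by omega))
      (no_swap_of_lt (by omega)) (Or.inr (Or.inl (by omega)))
    have := h.le_finrank C
    exact Sing.exists_singular C.smul C.polar _ (by omega)
  -- four-spaces of opposite types
  have four : ∀ {U W : Submodule F (ι → F)}, Split Q B U W → finrank F U = 4 → finrank F W = 4 →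
      Cfsg.Geo.IsPlusTypeOn Q U → ¬ Cfsg.Geo.IsPlusTypeOn Q W →
      Cfsg.Geo.IsMaximalIn (Cfsg.Geo.omegaGL Q)
        (Cfsg.Geo.subspaceStabilizer W ⊓ Cfsg.Geo.omegaGL Q) := fun {U W} S hU hW hp hnp => by
    refine split_max_flex C S (by omega) (fun e f h => sing_perp2_plus C hU hp h)
      (Or.inr ⟨hU, hW, hp, hnp⟩) (hb (by omega)) ?_ (Or.inr (Or.inl (by omega)))
    rintro ⟨g, hg, hgU⟩
    obtain ⟨M, hMU, hM, hMd⟩ := hp
    refine hnp ⟨M.map (Matrix.mulVecLin g.val), ?_, ?_, ?_⟩
    · rintro _ ⟨z, hz, rfl⟩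
      exact hgU z (hMU hz)
    · rintro _ ⟨z, hz, rfl⟩
      show Q (g.val *ᵥ z) = 0
      rw [mem_iso.mp hg]
      exact hM z hz
    · rw [(Submodule.equivMapOfInjective _ (act_injective g) M).finrank_eq.symm]
      omega
  rcases Nat.lt_or_ge (finrank F W) 3 with hs | hs
  · refine split_max_six C S (by omega) (hb h0) (by omega) ?_
    by_cases h1 : finrank F W = 1
    · exact Or.inl (aniso_of_line C hW h1)
    · exact (hex (by omega)).imp id Or.inr
  by_cases h3 : finrank F W = 3
  · exact five S (by omega) h3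
  by_cases h5 : finrank F W = 5
  · rw [S.stab_eq C]
    exact five (S.swap C) h5 (by omega)
  by_cases h7 : finrank F W = 7
  · rw [S.stab_eq C]
    exact split_max_six C (S.swap C) (by omega) (hb (by omega)) (by omega)
      (Or.inl (aniso_of_line C S.ndU (by omega)))
  have h4 : finrank F W = 4 := by omega
  have htype := NondegFix.type_sum C (s := 2) (t := 2) (S := U) (T := W) (by omega) (by omega)
    S.ndU S.ndW S.orth
  rw [S.sup] at htype
  by_cases hpU : Cfsg.Geo.IsPlusTypeOn Q U
  · exact four S (by omega) h4 hpU fun hpW => hminus (htype.mpr (iff_of_true hpU hpW))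
  · rw [S.stab_eq C]
    exact four (S.swap C) h4 (by omega)
      (by_contra fun hpW => hminus (htype.mpr (iff_of_false hpU hpW))) hpU

end Cfsg.Lib.Linear.OrthSub8
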